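import Cfsg.Agent.Lib.KnownB.PSpAut.Decomp

/-!
`PSp₄(2^f)`: an automorphism fixing the class of transvections is induced by a semilinear similitude, and the
square of every automorphism is.
-/

set_option autoImplicit false

namespace CfsgLib.KnownB.PSpAut

open Matrix CfsgLib.Classical

universe u

variable {m : ℕ} {F : Type u} [Field F] [Finite F] [NeZero m]

local notation "Sp" => Matrix.symplecticGroup (Fin m) F
local notation "PG" => Cfsg.PSp m F
local notation "M2" => Matrix (Fin m ⊕ Fin m) (Fin m ⊕ Fin m) F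
local notation "V" => (Fin m ⊕ Fin m → F)

omit [Finite F] [NeZero m] in
theorem sq_inj (h2 : (2 : F) = 0) {x y : F} (h : x ^ 2 = y ^ 2) : x = y := by
  have : (x - y) ^ 2 = 0 := by linear_combination h + (y ^ 2 - x * y) * h2
  exact sub_eq_zero.1 (by simpa using this)

omit [Finite F] in
theorem mk_injective_of_two (h2 : (2 : F) = 0) : Function.Injective (QuotientGroup.mk : Sp → PG) := by
  intro s t h
  rcases mk_eq_mk_iff.1 h with h | h
  · exact (Subtype.ext h).symm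
  · refine (Subtype.ext ?_).symm
    rw [h]
    ext i j
    rw [Matrix.neg_apply, neg_eq_iff_add_eq_zero]
    linear_combination s.1 i j * h2

omit [NeZero m] in
theorem exists_conj_T (h2 : (2 : F) = 0) {a : F} (ha : a ≠ 0) {e v : V} (he : e ≠ 0) (hv : v ≠ 0) :
    ∃ g : PG, g * T 1 e * g⁻¹ = T a v := by
  obtain ⟨c, hc⟩ := (Finite.surjective_of_injective fun x y h => sq_inj h2 h :
    Function.Surjective fun x : F => x ^ 2) a
  obtain ⟨g, hg⟩ := sp_transitive he (smul_ne_zero (by rintro rfl; simp [eq_comm, ha] at hc) hv : c • v ≠ 0)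
  refine ⟨QuotientGroup.mk g, ?_⟩
  have : T a v = T 1 (c • v) := by rw [T_smul, one_mul]; simp only at hc; rw [hc]
  rw [this, ← hg, T, T, ← stv_conj]
  rfl

theorem tpres_of_class (hm : 2 ≤ m) (h2 : (2 : F) = 0) (α : MulAut PG) {e₀ w₀ : V} (he₀ : e₀ ≠ 0) (hw₀ : w₀ ≠ 0)
    {b₀ : F} (hb₀ : b₀ ≠ 0) (h₀ : α (T 1 e₀) = T b₀ w₀) : TPres α := by
  have hsq : Function.Surjective fun x : F => x ^ 2 := Finite.surjective_of_injective fun x y h => sq_inj h2 h
  have conjT : ∀ (g : PG) (b : F) (w : V), b ≠ 0 → w ≠ 0 →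
      ∃ w' : V, w' ≠ 0 ∧ g * T b w * g⁻¹ = T 1 w' := by
    intro g b w hb hw
    induction g using QuotientGroup.induction_on with
    | H g =>
      obtain ⟨c, hc⟩ := hsq b
      simp only at hc
      refine ⟨c • (g.1 *ᵥ w), smul_ne_zero (by rintro rfl; simp [eq_comm, hb] at hc) (sp_mulVec_ne_zero g hw), ?_⟩
      rw [T_smul, one_mul, hc, T, T, ← stv_conj]
      rfl
  have img : ∀ v : V, v ≠ 0 → ∃ w : V, w ≠ 0 ∧ α (T 1 v) = T 1 w := by
    intro v hv
    obtain ⟨g, hg⟩ := exists_conj_T h2 one_ne_zero he₀ hv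
    obtain ⟨w, hw, hw'⟩ := conjT (α g) b₀ w₀ hb₀ hw₀
    exact ⟨w, hw, by rw [← hg, map_mul, map_mul, map_inv, h₀, hw']⟩
  have surj : ∀ w : V, w ≠ 0 → ∃ v : V, v ≠ 0 ∧ α (T 1 v) = T 1 w := by
    intro w hw
    obtain ⟨g, hg⟩ := exists_conj_T h2 hb₀ hw hw₀
    obtain ⟨v, hv, hv'⟩ := conjT (α.symm g⁻¹) 1 e₀ one_ne_zero he₀
    refine ⟨v, hv, ?_⟩
    rw [← hv']
    simp only [map_mul, map_inv, inv_inv, MulEquiv.apply_symm_apply, h₀]
    rw [← hg]
    group
  have perp : ∀ {v w v' w' : V}, v ≠ 0 → w ≠ 0 → v' ≠ 0 → w' ≠ 0 → α (T 1 v) = T 1 w → α (T 1 v') = T 1 w' →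
      (sbil v v' = 0 ↔ sbil w w' = 0) := by
    intro v w v' w' hv hw hv' hw' e1 e2
    rw [← commute_mk_stv_iff hm one_ne_zero one_ne_zero hv hv', ← commute_mk_stv_iff hm one_ne_zero one_ne_zero hw hw']
    show Commute (T 1 v) (T 1 v') ↔ Commute (T 1 w) (T 1 w')
    rw [← e1, ← e2]
    exact ⟨fun hc => hc.map α, fun hc => by simpa using hc.map α.symm⟩
  intro e he
  obtain ⟨e', he', h'⟩ := img e he
  refine ⟨e', he', fun a => ?_⟩
  by_cases ha : a = 0
  · subst ha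
    exact ⟨0, by rw [T, T, stv_zero, stv_zero]; exact map_one α⟩
  obtain ⟨c, hc⟩ := hsq a
  simp only at hc
  have hc0 : c ≠ 0 := by rintro rfl; simp [eq_comm, ha] at hc
  obtain ⟨w, hw, hwe⟩ := img (c • e) (smul_ne_zero hc0 he)
  obtain ⟨f, hf⟩ := exists_sbil_eq_one he'
  have hw' : w = sbil w f • e' := eq_smul_of_perp hf fun u hu => by
    rcases eq_or_ne u 0 with rfl | hu0
    · simp
    obtain ⟨v, hv, hvu⟩ := surj u hu0
    rw [← perp (smul_ne_zero hc0 he) hw hv hu0 hwe hvu, sbil_smul_left,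
      (perp he he' hv hu0 h' hvu).2 hu, mul_zero]
  refine ⟨sbil w f ^ 2, ?_⟩
  rw [show T a e = T 1 (c • e) by rw [T_smul, one_mul, hc], hwe]
  conv_lhs => rw [hw', T_smul, one_mul]

/-- The image of a transvection that is not a transvection is determined up to conjugacy. -/
theorem image_form (hm : m = 2) (h2 : (2 : F) = 0) (α : MulAut PG) {e₀ : V} (he₀ : e₀ ≠ 0)
    (hn : ∀ (b : F) (w : V), b ≠ 0 → w ≠ 0 → α (T 1 e₀) ≠ T b w) :
    ∃ (z : Sp) (e w : V), (QuotientGroup.mk z : PG) = α (T 1 e₀) ∧ sbil e w = 0 ∧ LinearIndependent F ![e, w] ∧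
      ∀ x, z.1 *ᵥ x = x + sbil w x • e + sbil e x • w := by
  classical
  have hm2 : 2 ≤ m := hm.ge
  obtain ⟨e, he, himg⟩ := exists_central_image α he₀
  obtain ⟨z, hz, hze, hzc⟩ := himg 1
  rcases centralizer_radical he hze hzc with ⟨c, rfl⟩ | ⟨-, w, hew, hli, -, -, -, c, hform⟩
  · exfalso
    refine hn c e (fun hc => ?_) he hz.symm
    subst hc
    rw [stv_zero] at hz
    exact one_ne_zero (T_inj hm2 he₀ (show T 1 e₀ = T 0 e₀ from α.injective (by
      rw [T, T, stv_zero, ← hz]; exact (map_one α).symm)))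
  refine ⟨z, e, w, hz, hew, hli, fun x => ?_⟩
  suffices hc : c = 0 by rw [hform, hc, zero_mul, zero_smul, add_zero]
  by_contra hc
  haveI := Fintype.ofFinite F
  set q := Nat.card F
  let S := {p : V × V // p.1 ≠ 0 ∧ sbil p.1 p.2 = 0 ∧ ∀ t : F, p.2 ≠ t • p.1}
  let Y := {y : Sp // ∃ g : Sp, g * z * g⁻¹ = y}
  have hg : ∀ p : S, ∃ g : Sp, g.1 *ᵥ e = p.1.1 ∧ g.1 *ᵥ w = p.1.2 := by
    rintro ⟨⟨u, v⟩, hu, huv, ht⟩
    obtain ⟨g, hg⟩ := CfsgLib.Geometry.sp_extend m F ![e, w] ![u, v] hli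
      ((LinearIndependent.pair_iff' hu).2 fun t h => ht t h.symm) (by
        intro i j
        simp only [sympForm_eq_sbil]
        fin_cases i <;> fin_cases j <;> simp [hew, huv, sbil_swap e w, sbil_swap u v])
    exact ⟨g, hg 0, hg 1⟩
  choose g hg1 hg2 using hg
  have hfy : ∀ (p : S) (x : V), (g p * z * (g p)⁻¹).1 *ᵥ x =
      x + sbil p.1.2 x • p.1.1 + sbil p.1.1 x • p.1.2 + (c * sbil p.1.1 x) • p.1.1 := by
    intro p x
    rw [sp_mul_mulVec, sp_mul_mulVec, hform, Matrix.mulVec_add, Matrix.mulVec_add, Matrix.mulVec_add,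
      Matrix.mulVec_smul, Matrix.mulVec_smul, Matrix.mulVec_smul, hg1, hg2, sp_mulVec_inv,
      show ∀ u : V, sbil u (((g p)⁻¹).1 *ᵥ x) = sbil ((g p).1 *ᵥ u) x from fun u => by
        conv_rhs => rw [← sp_mulVec_inv (g p) x]
        rw [sbil_mulVec],
      show ∀ u : V, sbil u (((g p)⁻¹).1 *ᵥ x) = sbil ((g p).1 *ᵥ u) x from fun u => by
        conv_rhs => rw [← sp_mulVec_inv (g p) x]
        rw [sbil_mulVec], hg1, hg2]
  let sel : {u : V // u ≠ 0} → V := fun u => (exists_sbil_eq_one u.2).choose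
  let φ : S → Y × F := fun p => (⟨g p * z * (g p)⁻¹, g p, rfl⟩, sbil p.1.2 (sel ⟨p.1.1, p.2.1⟩))
  have hφ : Function.Injective φ := by
    intro p p' h
    simp only [φ, Prod.mk.injEq, Subtype.mk.injEq] at h
    obtain ⟨hy, hs⟩ := h
    have hxy : ∀ x, sbil p.1.2 x • p.1.1 + sbil p.1.1 x • p.1.2 + (c * sbil p.1.1 x) • p.1.1 =
        sbil p'.1.2 x • p'.1.1 + sbil p'.1.1 x • p'.1.2 + (c * sbil p'.1.1 x) • p'.1.1 := fun x => by
      have := congrArg (fun k : Y => k.1.1 *ᵥ x) hy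
      simp only [hfy, add_assoc, add_right_inj] at this
      simpa only [add_assoc] using this
    have e1 : p.1.1 = p'.1.1 := sbil_ext fun x => by
      have := congrArg (sbil x) (hxy x)
      simp only [sbil_add_right, sbil_smul_right] at this
      rw [sbil_swap p.1.1 x, sbil_swap p.1.2 x, sbil_swap p'.1.1 x, sbil_swap p'.1.2 x] at this
      refine sq_inj h2 (mul_left_cancel₀ hc ?_)
      linear_combination -this + (sbil p'.1.1 x * sbil p'.1.2 x - sbil p.1.1 x * sbil p.1.2 x) * h2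
    set u : V := p.1.1 with hu
    have hu' : p'.1.1 = u := e1.symm
    set d := p.1.2 - p'.1.2 with hd
    have hu0 : u ≠ 0 := p.2.1
    have hsel : sbil u (sel ⟨u, hu0⟩) = 1 := (exists_sbil_eq_one hu0).choose_spec
    have hs' : sbil d (sel ⟨u, hu0⟩) = 0 := by
      rw [hd, sbil_sub_left, sub_eq_zero]
      convert hs using 3
      exact Subtype.ext e1
    have hd0 := hxy (sel ⟨u, hu0⟩)
    rw [hu', hsel, one_smul, one_smul] at hd0
    rw [sbil_sub_left, sub_eq_zero] at hs'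
    rw [hs', add_left_inj, add_right_inj] at hd0
    exact Subtype.ext (Prod.ext e1 hd0)
  have h1 := Nat.card_le_card_of_injective φ hφ
  rw [Nat.card_prod] at h1
  have h3 := (card_pairs_ge (m := m) (F := F)).trans h1
  have h4 := card_class_stv_le (m := m) (1 : F) he₀
  let ψ : Y → {y : PG // ∃ k : PG, k * QuotientGroup.mk (stv (1 : F) e₀) * k⁻¹ = y} := fun y =>
    ⟨α.symm (QuotientGroup.mk y.1), by
      obtain ⟨k, hk⟩ := y.2
      refine ⟨α.symm (QuotientGroup.mk k), ?_⟩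
      rw [← hk, ← α.symm_apply_apply (QuotientGroup.mk (stv (1 : F) e₀)),
        show α (QuotientGroup.mk (stv (1 : F) e₀)) = QuotientGroup.mk z from hz.symm]
      simp⟩
  have hψ : Function.Injective ψ := fun y y' h =>
    Subtype.ext (mk_injective_of_two h2 (α.symm.injective (congrArg Subtype.val h)))
  have h5 := (Nat.card_le_card_of_injective ψ hψ).trans h4
  subst hm
  rw [show 2 * 2 - 1 = 3 from rfl, show 2 * 2 = 4 from rfl] at h3
  rw [show 2 * 2 = 4 from rfl] at h5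
  have hq : 2 ≤ q := Finite.one_lt_card
  have h6 : Nat.card Y * q ≤ (q ^ 4 - 1) * q := Nat.mul_le_mul_right q h5
  have hpos : 0 < q ^ 4 - 1 := Nat.sub_pos_of_lt (Nat.one_lt_pow (by norm_num) hq)
  have h7 : q ^ 3 - q ≤ q := Nat.le_of_mul_le_mul_left (h3.trans h6) hpos
  have h8 : 4 * q ≤ q ^ 3 := by
    rw [pow_succ q 2]
    exact Nat.mul_le_mul_right q (Nat.pow_le_pow_left hq 2)
  omega

/-- For `PSp₄(2^f)` the square of an automorphism is semilinear. -/
theorem sq_mem_gamma (hm : m = 2) (h2 : (2 : F) = 0) (α : MulAut PG) : α * α ∈ Cfsg.gammaPSp m F := by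
  have hm2 : 2 ≤ m := hm.ge
  have hb0 : (bas (Sum.inl 0) : V) ≠ 0 := bas_ne_zero _
  have trans : ∀ β : MulAut PG, (∃ (b : F) (w : V), b ≠ 0 ∧ w ≠ 0 ∧ β (T 1 (bas (Sum.inl 0))) = T b w) → TPres β :=
    fun β ⟨b, w, hb, hw, h⟩ => tpres_of_class hm2 h2 β hb0 hw hb h
  refine mem_gamma_of_tpres hm2 _ ?_
  by_cases hα : ∃ (b : F) (w : V), b ≠ 0 ∧ w ≠ 0 ∧ α (T 1 (bas (Sum.inl 0))) = T b w
  · exact (trans α hα).mul (trans α hα)
  push Not at hα
  refine trans _ ?_
  by_contra hαα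
  push Not at hαα
  obtain ⟨z, e, w, hz, hew, hli, hzx⟩ := image_form hm h2 α hb0 hα
  obtain ⟨z', e', w', hz', hew', hli', hzx'⟩ := image_form hm h2 (α * α) hb0 hαα
  obtain ⟨g, hg⟩ := CfsgLib.Geometry.sp_extend m F ![e, w] ![e', w'] hli hli' (by
    intro i j
    simp only [sympForm_eq_sbil]
    fin_cases i <;> fin_cases j <;> simp [hew, hew', sbil_swap e w, sbil_swap e' w'])
  have hconj : g * z * g⁻¹ = z' := sp_ext fun x => by
    have hadj : ∀ u : V, sbil u ((g⁻¹).1 *ᵥ x) = sbil (g.1 *ᵥ u) x := fun u => by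
      conv_rhs => rw [← sp_mulVec_inv g x]
      rw [sbil_mulVec]
    rw [sp_mul_mulVec, sp_mul_mulVec, hzx, hzx', Matrix.mulVec_add, Matrix.mulVec_add, Matrix.mulVec_smul,
      Matrix.mulVec_smul, sp_mulVec_inv, hadj, hadj, show g.1 *ᵥ e = e' from hg 0, show g.1 *ᵥ w = w' from hg 1]
  have h : (α * α) (T 1 (bas (Sum.inl 0))) =
      QuotientGroup.mk g * α (T 1 (bas (Sum.inl 0))) * (QuotientGroup.mk g)⁻¹ := by
    rw [← hz, ← hz', ← hconj]
    rfl
  have h' : α (T 1 (bas (Sum.inl 0))) =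
      α.symm (QuotientGroup.mk g) * T 1 (bas (Sum.inl 0)) * (α.symm (QuotientGroup.mk g))⁻¹ := by
    apply α.injective
    rw [map_mul, map_mul, map_inv, MulEquiv.apply_symm_apply]
    exact h
  obtain ⟨k, hk⟩ := QuotientGroup.mk_surjective (α.symm (QuotientGroup.mk g))
  refine hα 1 (k.1 *ᵥ bas (Sum.inl 0)) one_ne_zero (sp_mulVec_ne_zero k hb0) ?_
  rw [h', ← hk, T, T, ← stv_conj]
  rfl

end CfsgLib.KnownB.PSpAut
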