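import Cfsg.Agent.Lib.KnownB.PSpAut.FieldAut
import Cfsg.Agent.Lib.KnownB.PSpAut.Four
import Cfsg.Agent.Lib.Classical.SympFourTwo

/-!
The core of the centraliser of a field automorphism of `PSp_{2m}(F)` in an almost simple group.
-/

set_option autoImplicit false

namespace CfsgLib.KnownB.PSpAut

open Matrix CfsgLib.Classical

universe u v

variable {m : ℕ} {F : Type u} [Field F]

local notation "Sp" => Matrix.symplecticGroup (Fin m) F
local notation "PG" => Cfsg.PSp m F
local notation "M2" => Matrix (Fin m ⊕ Fin m) (Fin m ⊕ Fin m) F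
local notation "V" => (Fin m ⊕ Fin m → F)

theorem pPrimeCore_ne_bot_iff {G : Type v} [Group G] (p : ℕ) :
    Cfsg.pPrimeCore p G ≠ ⊥ ↔ ∃ N : Subgroup G, N.Normal ∧ (Nat.card N).Coprime p ∧ N ≠ ⊥ := by
  constructor
  · intro h
    by_contra hN
    push Not at hN
    exact h (sSup_eq_bot.2 fun N hN' => hN N hN'.1 hN'.2)
  · rintro ⟨N, h1, h2, h3⟩ h
    exact h3 (le_bot_iff.1 (h ▸ le_sSup (show N ∈ {N : Subgroup G | N.Normal ∧ (Nat.card N).Coprime p} from ⟨h1, h2⟩)))

theorem pPrimeCore_ne_bot_congr {G : Type v} [Group G] {H : Type v} [Group H] (e : G ≃* H) (p : ℕ) :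
    Cfsg.pPrimeCore p G ≠ ⊥ ↔ Cfsg.pPrimeCore p H ≠ ⊥ := by
  have key : ∀ {G H : Type v} [Group G] [Group H] (e : G ≃* H),
      (∃ N : Subgroup G, N.Normal ∧ (Nat.card N).Coprime p ∧ N ≠ ⊥) →
        ∃ N : Subgroup H, N.Normal ∧ (Nat.card N).Coprime p ∧ N ≠ ⊥ := by
    rintro G H _ _ e ⟨N, h1, h2, h3⟩
    refine ⟨N.map e.toMonoidHom, h1.map _ e.surjective, ?_, fun h => h3 ?_⟩
    · rwa [← Nat.card_congr (N.equivMapOfInjective e.toMonoidHom e.injective).toEquiv]
    · exact (Subgroup.map_eq_bot_iff_of_injective _ e.injective).1 h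
  rw [pPrimeCore_ne_bot_iff, pPrimeCore_ne_bot_iff]
  exact ⟨key e, key e.symm⟩

theorem gamma_decomp {α : MulAut PG} (h : α ∈ Cfsg.gammaPSp m F) :
    ∃ (g : Cfsg.GSp m F) (σ : F ≃+* F), α = δ g * fld σ := by
  refine Subgroup.closure_induction (p := fun α _ => ∃ (g : Cfsg.GSp m F) (σ : F ≃+* F), α = δ g * fld σ) ?_ ?_ ?_ ?_ h
  · rintro β ⟨g, σ, hg, h⟩
    exact ⟨⟨g, hg⟩, σ, (isInducedBySemilinearPSp_iff ⟨g, hg⟩ σ β).1 h⟩
  · exact ⟨1, 1, by rw [map_one, map_one, one_mul]⟩
  · rintro _ _ _ _ ⟨g, σ, rfl⟩ ⟨g', σ', rfl⟩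
    refine ⟨g * gmap (σ : F →+* F) g', σ * σ', ?_⟩
    rw [map_mul, map_mul, mul_assoc, ← mul_assoc (fld σ), fld_δ]
    simp only [mul_assoc]
  · rintro _ _ ⟨g, σ, rfl⟩
    refine ⟨gmap ((σ⁻¹ : F ≃+* F) : F →+* F) g⁻¹, σ⁻¹, ?_⟩
    rw [_root_.mul_inv_rev, ← map_inv, ← map_inv, fld_δ]

theorem δ_fld_pow (g : Cfsg.GSp m F) (σ : F ≃+* F) (k : ℕ) :
    ∃ G : Cfsg.GSp m F, (δ g * fld σ : MulAut PG) ^ k = δ G * fld (σ ^ k) := by
  induction k with
  | zero => exact ⟨1, by simp⟩
  | succ k ih =>
    obtain ⟨G, he⟩ := ih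
    exact ⟨g * gmap (σ : F →+* F) G, by
      rw [pow_succ', he, mul_assoc (δ g), ← mul_assoc (fld σ), fld_δ, mul_assoc, ← map_mul, ← mul_assoc,
        ← map_mul, ← pow_succ']⟩

theorem T_ne_one [NeZero m] (hm : 2 ≤ m) {v : V} (hv : v ≠ 0) : T 1 v ≠ (1 : PG) := fun h =>
  one_ne_zero (T_inj hm hv (h.trans (show (1 : PG) = T 0 v by rw [T, stv_zero]; rfl)))

theorem center_eq_bot [NeZero m] (hm : 2 ≤ m) (hK : IsSimpleGroup PG) : Subgroup.center PG = ⊥ := by
  rcases hK.eq_bot_or_eq_top_of_normal _ (inferInstance : (Subgroup.center PG).Normal) with h | h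
  · exact h
  · exfalso
    have hc : Commute (T 1 (bas (Sum.inr (0 : Fin m)))) (T 1 (bas (Sum.inl (0 : Fin m))) : PG) :=
      (Subgroup.mem_center_iff.1 (h ▸ Subgroup.mem_top (T 1 (bas (Sum.inl (0 : Fin m))) : PG))) _
    have := (commute_mk_stv_iff hm one_ne_zero one_ne_zero (bas_ne_zero _) (bas_ne_zero _)).1 hc
    rw [sbil_bas_pair] at this
    exact one_ne_zero this

theorem mem_gamma_of_fix [NeZero m] [Finite F] (hm : 2 ≤ m) (α : MulAut PG) {e : V} (he : e ≠ 0)
    (h : α (T 1 e) = T 1 e) : α ∈ Cfsg.gammaPSp m F := by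
  by_cases h4 : m = 2 ∧ (2 : F) = 0
  · exact mem_gamma_of_tpres hm α (tpres_of_class hm h4.2 α he he one_ne_zero h)
  · rw [gammaPSp_eq_top hm fun e2 => fun e0 => h4 ⟨e2, e0⟩]
    trivial

theorem mem_gamma_of_odd_order [NeZero m] [Finite F] (hm : 2 ≤ m) (α : MulAut PG)
    (h : (2 : F) = 0 → Odd (orderOf α)) : α ∈ Cfsg.gammaPSp m F := by
  by_cases h4 : m = 2 ∧ (2 : F) = 0
  · obtain ⟨k, hk⟩ := h h4.2
    have : α = (α * α) ^ (k + 1) := by
      rw [← sq, ← pow_mul, show 2 * (k + 1) = orderOf α + 1 by omega, pow_succ, pow_orderOf_eq_one, one_mul]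
    rw [this]
    exact pow_mem (sq_mem_gamma h4.1 h4.2 α) _
  · rw [gammaPSp_eq_top hm fun e2 => fun e0 => h4 ⟨e2, e0⟩]
    trivial

/-- Base change on `Sp`. -/
def spMap {L : Type v} [Field L] (ι : L →+* F) : Matrix.symplecticGroup (Fin m) L →* Sp :=
  MonoidHom.mk' (fun s => ⟨s.1.map ι, by
    have h := congrArg (fun X : Matrix (Fin m ⊕ Fin m) (Fin m ⊕ Fin m) L => X.map ι) (SymplecticGroup.mem_iff'.1 s.2)
    simp only [Matrix.map_mul, Matrix.transpose_map, J_map] at h
    exact SymplecticGroup.mem_iff'.2 h⟩)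
    fun s t => Subtype.ext (Matrix.map_mul)

@[simp] theorem spMap_coe {L : Type v} [Field L] (ι : L →+* F) (s : Matrix.symplecticGroup (Fin m) L) :
    (spMap ι s).1 = s.1.map ι := rfl

theorem exists_spMap_preimage {L : Type v} [Field L] (ι : L →+* F) (s : Sp) (h : ∀ i j, ∃ y, ι y = s.1 i j) :
    ∃ t, spMap ι t = s := by
  choose M hM using h
  have hM' : (Matrix.of M).map ι = s.1 := by ext i j; exact hM i j
  refine ⟨⟨Matrix.of M, SymplecticGroup.mem_iff'.2 (Matrix.map_injective ι.injective ?_)⟩, Subtype.ext hM'⟩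
  show ((Matrix.of M)ᵀ * Matrix.J (Fin m) L * Matrix.of M).map ι = (Matrix.J (Fin m) L).map ι
  rw [Matrix.map_mul, Matrix.map_mul, Matrix.transpose_map, J_map, hM']
  exact SymplecticGroup.mem_iff'.1 s.2

theorem mem_zpowers_of_fix [Finite F] (σ τ : F ≃+* F) (h : ∀ a, σ a = a → τ a = a) : τ ∈ Subgroup.zpowers σ := by
  classical
  haveI : Finite (F ≃+* F) := Finite.of_injective _ DFunLike.coe_injective
  let K := FixedPoints.subfield (Subgroup.zpowers σ) F
  let φ : F →ₐ[K] F :=
    { (τ : F →+* F) with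
      commutes' := fun a => h a (a.2 ⟨σ, Subgroup.mem_zpowers σ⟩) }
  obtain ⟨g, hg⟩ := (FixedPoints.toAlgHom_bijective (Subgroup.zpowers σ) F).2 φ
  have : (g : F ≃+* F) = τ := RingEquiv.ext fun a => DFunLike.congr_fun hg a
  exact this ▸ g.2

set_option maxHeartbeats 400000 in
/-- The criterion for the standard field automorphism. -/
theorem core_criterion [Fintype F] (hm : 2 ≤ m) (hK : IsSimpleGroup PG) {p : ℕ} [Fact p.Prime] (hp : (p : F) ≠ 0)
    {σ : F ≃+* F} (hσ : orderOf σ = p) (A : Subgroup (MulAut PG)) (hinn : ∀ k : PG, MulAut.conj k ∈ A) :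
    Cfsg.pPrimeCore p ↥(A ⊓ Subgroup.centralizer {(fld σ : MulAut PG)}) ≠ ⊥ ↔
      Nat.Coprime p (Nat.card ↥(MonoidHom.eqLocus (fld σ : MulAut PG).toMonoidHom (MonoidHom.id PG))) := by
  classical
  have : NeZero m := ⟨by omega⟩
  set x : MulAut PG := fld σ with hx
  set H : Subgroup (MulAut PG) := A ⊓ Subgroup.centralizer {x}
  set P0 : Subgroup PG := MonoidHom.eqLocus x.toMonoidHom (MonoidHom.id PG)
  have hP0 : ∀ k, k ∈ P0 ↔ x k = k := fun k => Iff.rfl
  have hconjmem : ∀ k : P0, MulAut.conj (k : PG) ∈ H := fun k => ⟨hinn _, by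
    show _ ∈ Subgroup.centralizer {x}
    rw [Subgroup.mem_centralizer_singleton_iff]
    refine MulEquiv.ext fun y => ?_
    simp only [MulAut.mul_apply, MulAut.conj_apply, map_mul, map_inv, (hP0 k).1 k.2]⟩
  let E : P0 →* H := ((MulAut.conj : PG →* MulAut PG).comp P0.subtype).codRestrict H hconjmem
  have hE : Function.Injective E := by
    refine (injective_iff_map_eq_one E).2 fun k hk => Subtype.ext ?_
    have h1 : MulAut.conj (k : PG) = 1 := congrArg Subtype.val hk
    have : (k : PG) ∈ Subgroup.center PG := Subgroup.mem_center_iff.2 fun y => by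
      have := DFunLike.congr_fun h1 y
      rw [MulAut.conj_apply, MulAut.one_apply, mul_inv_eq_iff_eq_mul] at this
      exact this.symm
    rwa [center_eq_bot hm hK, Subgroup.mem_bot] at this
  have hHx : ∀ (h : H) (k : PG), x k = k → x ((h : MulAut PG) k) = (h : MulAut PG) k := fun h k hk => by
    have hc : (h : MulAut PG) * x = x * h := Subgroup.mem_centralizer_singleton_iff.1 h.2.2
    rw [← MulAut.mul_apply, ← hc, MulAut.mul_apply, hk]
  have hconjh : ∀ (h : H) (k : P0), h * E k * h⁻¹ = E ⟨(h : MulAut PG) k, hHx h k k.2⟩ := fun h k =>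
    Subtype.ext <| MulEquiv.ext fun y => by
      show (h : MulAut PG) ((k : PG) * ((h : MulAut PG).symm y) * (k : PG)⁻¹) =
        (h : MulAut PG) k * y * ((h : MulAut PG) k)⁻¹
      simp
  rw [pPrimeCore_ne_bot_iff]
  constructor
  swap
  · intro hcop
    refine ⟨E.range, ⟨?_⟩, ?_, fun h => ?_⟩
    · rintro _ ⟨k, rfl⟩ h
      exact ⟨_, (hconjh h k).symm⟩
    · rw [← Nat.card_congr (MonoidHom.ofInjective hE).toEquiv]
      exact hcop.symm
    · have hfix : T 1 (bas (Sum.inl (0 : Fin m))) ∈ P0 := (hP0 _).2 (by rw [hx, fld_T, map_one, comp_bas])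
      have h1 : E ⟨_, hfix⟩ ∈ E.range := ⟨_, rfl⟩
      rw [h, Subgroup.mem_bot] at h1
      exact T_ne_one hm (bas_ne_zero (Sum.inl (0 : Fin m))) (congrArg Subtype.val (hE (h1.trans (map_one E).symm)))
  rintro ⟨N, hN, hNp, hN1⟩
  by_contra hcop
  have hpP0 : p ∣ Nat.card P0 := by
    by_contra hd
    exact hcop ((Nat.Prime.coprime_iff_not_dvd (Fact.out : p.Prime)).2 hd)
  -- the fixed points
  let K : Subfield F := RingHom.eqLocusField (σ : F →+* F) (RingHom.id F)
  have hKmem : ∀ a, a ∈ K ↔ σ a = a := fun a => Iff.rfl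
  let ι : K →+* F := K.subtype
  have hιfix : ∀ s, fieldSp σ (spMap (m := m) ι s) = spMap ι s := fun s =>
    Subtype.ext (Matrix.ext fun i j => (s.1 i j).2)
  let φ : Matrix.symplecticGroup (Fin m) K →* P0 :=
    ((QuotientGroup.mk' _).comp (spMap (m := m) ι)).codRestrict P0 fun s => (hP0 _).2 (by
      rw [hx]
      show QuotientGroup.mk (fieldSp σ _) = _
      rw [hιfix]
      rfl)
  have hφker : ∀ s, φ s = 1 ↔ s ∈ Subgroup.center (Matrix.symplecticGroup (Fin m) K) := fun s => by
    rw [mem_center_sp_iff]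
    constructor
    · intro h
      have h1 : (QuotientGroup.mk (spMap ι s) : PG) = QuotientGroup.mk 1 := congrArg Subtype.val h
      rcases mk_eq_mk_iff.1 h1 with h2 | h2
      · exact Or.inl (Matrix.map_injective ι.injective (h2.symm.trans (Matrix.map_one ι ι.map_zero ι.map_one).symm))
      · refine Or.inr (Matrix.map_injective ι.injective ?_)
        dsimp only
        rw [← spMap_coe, neg_eq_iff_eq_neg.1 h2.symm, OneMemClass.coe_one, Matrix.map_neg _ (map_neg ι),
          Matrix.map_one ι ι.map_zero ι.map_one]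
    · intro h
      refine Subtype.ext ?_
      show (QuotientGroup.mk (spMap ι s) : PG) = QuotientGroup.mk 1
      rw [mk_eq_mk_iff, spMap_coe, OneMemClass.coe_one]
      rcases h with h | h <;> rw [h]
      · exact Or.inl (Matrix.map_one ι ι.map_zero ι.map_one).symm
      · refine Or.inr ?_
        rw [Matrix.map_neg _ (map_neg ι), Matrix.map_one ι ι.map_zero ι.map_one, neg_neg]
  -- a fixed element has entries fixed up to one sign
  have hfix : ∀ k : P0, ∃ t : Sp, QuotientGroup.mk t = (k : PG) ∧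
      (t.1.map σ = t.1 ∨ t.1.map σ = -t.1) := by
    intro k
    obtain ⟨t, ht⟩ := QuotientGroup.mk_surjective (k : PG)
    refine ⟨t, ht, ?_⟩
    have h := (hP0 _).1 k.2
    rw [← ht, hx, fld_mk, mk_eq_mk_iff] at h
    rcases h with h | h
    · exact Or.inl h.symm
    · exact Or.inr (neg_eq_iff_eq_neg.1 h.symm)
  have hsurj : Odd p → Function.Surjective φ := by
    intro hodd k
    obtain ⟨t, ht, h⟩ := hfix k
    have h' : t.1.map σ = t.1 := by
      rcases h with h | h
      · exact h
      · have hn : ∀ (i : ℕ) (a b : Fin m ⊕ Fin m), (σ ^ i : F ≃+* F) (t.1 a b) = (-1) ^ i * t.1 a b := by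
          intro i
          induction i with
          | zero => simp
          | succ i ih =>
            intro a b
            have := congrFun (congrFun h a) b
            rw [Matrix.map_apply, Matrix.neg_apply] at this
            rw [pow_succ']
            show σ ((σ ^ i : F ≃+* F) (t.1 a b)) = _
            rw [ih, map_mul, map_pow, map_neg, map_one, this, pow_succ']
            ring
        ext a b
        rw [h, Matrix.neg_apply]
        have := hn p a b
        rw [← hσ, pow_orderOf_eq_one, hσ, hodd.neg_one_pow, neg_one_mul] at this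
        exact this.symm
    obtain ⟨s, hs⟩ := exists_spMap_preimage ι t fun i j => ⟨⟨_, congrFun (congrFun h' i) j⟩, rfl⟩
    exact ⟨s, Subtype.ext ((congrArg QuotientGroup.mk hs).trans ht)⟩
  have hφnormal : φ.range.Normal := by
    refine ⟨?_⟩
    rintro _ ⟨s, rfl⟩ y
    obtain ⟨t, ht, h⟩ := hfix y
    obtain ⟨s', hs'⟩ := exists_spMap_preimage ι (t * spMap ι s * t⁻¹) fun i j => ⟨⟨_, (hKmem _).2 (by
      have h' : fieldSp σ t * spMap ι s * (fieldSp σ t)⁻¹ = t * spMap ι s * t⁻¹ := by
        rcases h with h | h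
        · rw [show fieldSp σ t = t from Subtype.ext h]
        · refine Subtype.ext ?_
          show (fieldSp σ t).1 * _ * ((fieldSp σ t)⁻¹).1 = t.1 * _ * (t⁻¹).1
          have h2 : ((fieldSp σ t)⁻¹).1 = -(t⁻¹).1 := by
            have h1 : (fieldSp σ t)⁻¹ = ⟨-(t⁻¹).1, SymplecticGroup.neg_mem (t⁻¹).2⟩ :=
              inv_eq_of_mul_eq_one_right (Subtype.ext (by
                show (fieldSp σ t).1 * -(t⁻¹).1 = 1
                rw [show (fieldSp σ t).1 = -t.1 from h, neg_mul_neg]
                exact congrArg Subtype.val (mul_inv_cancel t)))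
            exact congrArg Subtype.val h1
          rw [show (fieldSp σ t).1 = -t.1 from h, h2, neg_mul, neg_mul, mul_neg, neg_neg]
      have e : fieldSp σ (t * spMap ι s * t⁻¹) = t * spMap ι s * t⁻¹ := by
        rw [map_mul, map_mul, map_inv, hιfix, h']
      exact congrFun (congrFun (congrArg Subtype.val e) i) j)⟩, rfl⟩
    refine ⟨s', Subtype.ext ((congrArg QuotientGroup.mk hs').trans ?_)⟩
    show _ = (y : PG) * QuotientGroup.mk (spMap ι s) * (y : PG)⁻¹
    rw [← ht]
    rfl
  have hpR : p ∣ Nat.card φ.range := by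
    rcases (Fact.out : p.Prime).eq_two_or_odd' with rfl | hodd
    · have h2 : (2 : F) ≠ 0 := by exact_mod_cast hp
      let d : Fin m ⊕ Fin m → K := fun i => if i = Sum.inl 0 ∨ i = Sum.inr 0 then -1 else 1
      have hd : Matrix.diagonal d ∈ Matrix.symplecticGroup (Fin m) K := by
        refine mem_symplecticGroup_iff_sbil.2 fun u w => ?_
        simp only [sbil_apply, Matrix.mulVec_diagonal, d]
        refine Finset.sum_congr rfl fun j _ => ?_
        by_cases hj : j = 0 <;> simp [hj]
      have hsq : φ ⟨_, hd⟩ ^ 2 = 1 := by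
        rw [sq, ← map_mul, show (⟨_, hd⟩ : Matrix.symplecticGroup (Fin m) K) * ⟨_, hd⟩ = 1 from Subtype.ext (by
          show Matrix.diagonal d * Matrix.diagonal d = 1
          rw [Matrix.diagonal_mul_diagonal, ← Matrix.diagonal_one]
          congr 1
          funext i
          simp only [d]
          split_ifs <;> ring), map_one]
      have hne : φ ⟨_, hd⟩ ≠ 1 := by
        rw [Ne, hφker, mem_center_sp_iff]
        have h1' : (-1 : K) ≠ 1 := fun h => h2 (by
          have := congrArg ι h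
          rw [map_neg, map_one] at this
          linear_combination -this)
        rintro (h | h)
        · have := congrFun (congrFun h (Sum.inl 0)) (Sum.inl 0)
          simp [d, h1'] at this
        · have := congrFun (congrFun h (Sum.inl ⟨1, by omega⟩)) (Sum.inl ⟨1, by omega⟩)
          simp [d, Fin.ext_iff, eq_comm] at this
          exact h1' this.symm
      rw [← orderOf_eq_prime hsq hne]
      exact Subgroup.orderOf_dvd_natCard _ ⟨_, rfl⟩
    · rwa [MonoidHom.range_eq_top.2 (hsurj hodd), Subgroup.card_top]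
  set M0 : Subgroup P0 := N.comap E with hM0def
  have hM0 : (Nat.card M0).Coprime p := by
    refine Nat.Coprime.coprime_dvd_left ?_ hNp
    rw [Nat.card_congr (M0.equivMapOfInjective E hE).toEquiv]
    exact Subgroup.card_dvd_of_le (Subgroup.map_comap_le E N)
  haveI : M0.Normal := hN.comap E
  -- `M0` meets the image of `Sp` trivially
  have hM0φ : ∀ s, φ s ∈ M0 → φ s = 1 := by
    intro s hs
    have : (M0.comap φ).Normal := Subgroup.Normal.comap ‹_› φ
    by_cases hperf : 3 ≤ Fintype.card (Fin m) ∨ (2 ≤ Fintype.card (Fin m) ∧ 3 ≤ Nat.card K) ∨ 4 ≤ Nat.card K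
    · rcases normal_sp_le_center_or_eq_top (by rw [Fintype.card_fin]; exact hm)
        (sp_commutator_eq_top' hperf) (M0.comap φ) with h | h
      · exact (hφker s).2 (h hs)
      · exfalso
        have hle : φ.range ≤ M0 := by
          rintro _ ⟨t, rfl⟩
          exact (h ▸ Subgroup.mem_top t : t ∈ M0.comap φ)
        exact (Nat.Prime.coprime_iff_not_dvd Fact.out).1 hM0.symm (hpR.trans (Subgroup.card_dvd_of_le hle))
    · simp only [Fintype.card_fin, not_or, not_and, not_le] at hperf
      obtain rfl : m = 2 := by omega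
      have hK2 : Nat.card K = 2 := by
        have := hperf.2.1 le_rfl
        have : 2 ≤ Nat.card K := Finite.one_lt_card
        omega
      have hodd : Odd p := by
        refine (Fact.out : p.Prime).odd_of_ne_two ?_
        rintro rfl
        haveI := Fintype.ofFinite K
        have h0 : ((Fintype.card K : ℕ) : K) = 0 := Nat.cast_card_eq_zero K
        rw [← Nat.card_eq_fintype_card, hK2] at h0
        exact hp (by have := congrArg ι h0; rwa [map_natCast, map_zero] at this)
      haveI : CharP K 2 := by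
        haveI := Fintype.ofFinite K
        exact charP_of_card_eq_prime (by rw [← Nat.card_eq_fintype_card, hK2])
      obtain ⟨ε⟩ := FourTwo.equiv_perm_six hK2
      by_contra hne
      let N6 : Subgroup (Equiv.Perm (Fin 6)) := (M0.comap φ).map ε.toMonoidHom
      haveI : N6.Normal := Subgroup.Normal.map ‹_› _ ε.surjective
      have hnt : Nontrivial N6 := by
        refine (Subgroup.nontrivial_iff_exists_ne_one _).2 ⟨ε s, ⟨s, hs, rfl⟩, fun h => hne ?_⟩
        rw [ε.map_eq_one_iff.1 h, map_one]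
      have hA : alternatingGroup (Fin 6) ≤ N6 :=
        Equiv.Perm.alternatingGroup_le_of_normal (by rw [Nat.card_fin]; norm_num) hnt
      have hcinj : Function.Injective φ := (injective_iff_map_eq_one φ).2 fun t ht => by
        rcases mem_center_sp_iff.1 ((hφker t).1 ht) with h | h
        · exact Subtype.ext h
        · refine Subtype.ext (h.trans ?_)
          ext i j
          rw [Matrix.neg_apply, CharTwo.neg_eq]
          rfl
      have h360 : 360 ∣ Nat.card M0 := by
        have h1 := Subgroup.card_dvd_of_le hA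
        rw [nat_card_alternatingGroup, Nat.card_fin] at h1
        refine (show 360 ∣ Nat.card N6 from h1).trans ?_
        rw [← Nat.card_congr ((M0.comap φ).equivMapOfInjective ε.toMonoidHom ε.injective).toEquiv,
          Nat.card_congr ((M0.comap φ).equivMapOfInjective φ hcinj).toEquiv]
        exact Subgroup.card_dvd_of_le (Subgroup.map_comap_le φ M0)
      have h720 : p ∣ 2 * 360 := by
        have h := hpR
        rw [← Nat.card_congr (MonoidHom.ofInjective hcinj).toEquiv, Nat.card_congr ε.toEquiv, Nat.card_perm,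
          Nat.card_fin] at h
        exact h
      have hp360 : p ∣ 360 :=
        ((Nat.coprime_primes Fact.out Nat.prime_two).2 (by rintro rfl; exact absurd hodd (by decide))).dvd_of_dvd_mul_left h720
      exact (Nat.Prime.coprime_iff_not_dvd Fact.out).1 hM0.symm (hp360.trans h360)
  -- what centralises the image of `Sp`
  have hcent : ∀ n : MulAut PG, (∀ s, n (φ s : PG) = φ s) → n ^ p = 1 := by
    intro n hn
    have hfixT : ∀ (a : F) (v : V), σ a = a → (∀ i, v i = 0 ∨ v i = 1) → n (T a v) = T a v := by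
      intro a v ha hv
      obtain ⟨s, hs⟩ := exists_spMap_preimage ι (stv a v) fun i j => ⟨⟨_, (hKmem _).2 (by
        have h1 : fieldSp σ (stv a v) = stv a v := by
          rw [fieldSp_stv, ha]
          congr 1
          funext i
          rcases hv i with e | e <;> simp [e]
        exact congrFun (congrFun (congrArg Subtype.val h1) i) j)⟩, rfl⟩
      have := hn s
      rw [show (φ s : PG) = T a v from congrArg QuotientGroup.mk hs] at this
      exact this
    have hb : ∀ i, (bas (Sum.inl (0 : Fin m)) : V) i = 0 ∨ (bas (Sum.inl (0 : Fin m)) : V) i = 1 := fun i => by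
      by_cases e : i = Sum.inl 0 <;> simp [bas, e]
    obtain ⟨g, τ, rfl⟩ := gamma_decomp (mem_gamma_of_fix hm n (bas_ne_zero (Sum.inl (0 : Fin m)))
      (hfixT 1 _ (map_one σ) hb))
    obtain ⟨hτ, t, ht, hg⟩ := scalar_of_fix hm (fun a => σ a = a) (map_one σ) hfixT
    rw [δ_scalar ht hg, one_mul, ← map_pow]
    obtain ⟨i, rfl⟩ := Subgroup.mem_zpowers_iff.1 (mem_zpowers_of_fix σ τ hτ)
    rw [← zpow_natCast, ← _root_.zpow_mul, mul_comm, _root_.zpow_mul, zpow_natCast, ← hσ, pow_orderOf_eq_one, _root_.one_zpow, map_one]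
  have hM0bot : M0 = ⊥ := by
    rw [Subgroup.eq_bot_iff_forall]
    intro y hy
    have hc : ∀ s, (MulAut.conj (y : PG)) (φ s : PG) = φ s := fun s => by
      obtain ⟨s', hs'⟩ := hφnormal.conj_mem _ ⟨s, rfl⟩ y
      have h1 : φ (s' * s⁻¹) ∈ M0 := by
        rw [map_mul, map_inv, hs', mul_assoc, mul_assoc, ← mul_assoc (φ s)]
        exact M0.mul_mem hy (‹M0.Normal›.conj_mem _ (M0.inv_mem hy) _)
      have h2 := hM0φ _ h1
      rw [map_mul, map_inv, hs', mul_inv_eq_one] at h2
      exact congrArg Subtype.val h2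
    have h1 : E y ^ p = 1 := Subtype.ext (by rw [SubmonoidClass.coe_pow]; exact hcent _ hc)
    rw [← map_pow] at h1
    have h2 : y ^ p = 1 := hE (h1.trans (map_one E).symm)
    have h3 : (⟨y, hy⟩ : M0) ^ (Nat.card M0) = 1 := pow_card_eq_one'
    exact orderOf_eq_one_iff.1 (Nat.eq_one_of_dvd_coprimes hM0 (orderOf_dvd_of_pow_eq_one (congrArg Subtype.val h3))
      (orderOf_dvd_of_pow_eq_one h2))
  refine hN1 ((Subgroup.eq_bot_iff_forall _).2 fun n hn => ?_)
  have hnfix : ∀ s, (n : MulAut PG) (φ s : PG) = φ s := fun s => by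
    have h1 : n * E (φ s) * n⁻¹ * (E (φ s))⁻¹ ∈ N := by
      rw [mul_assoc, mul_assoc, ← mul_assoc (E (φ s))]
      exact N.mul_mem hn (hN.conj_mem _ (N.inv_mem hn) _)
    rw [hconjh, ← map_inv, ← map_mul] at h1
    have h2 : (⟨(n : MulAut PG) (φ s : PG), hHx n _ (φ s).2⟩ : P0) * (φ s)⁻¹ ∈ M0 := h1
    rw [hM0bot, Subgroup.mem_bot, mul_inv_eq_one] at h2
    exact congrArg Subtype.val h2
  have h1 : n ^ p = 1 := Subtype.ext (by rw [SubmonoidClass.coe_pow]; exact hcent _ hnfix)
  have h2 : (⟨n, hn⟩ : N) ^ (Nat.card N) = 1 := pow_card_eq_one'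
  exact orderOf_eq_one_iff.1 (Nat.eq_one_of_dvd_coprimes hNp (orderOf_dvd_of_pow_eq_one (congrArg Subtype.val h2))
    (orderOf_dvd_of_pow_eq_one h1))

end CfsgLib.KnownB.PSpAut
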