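import Cfsg.Agent.Lib.KnownB.PSpAut.Decomp
import Cfsg.Agent.Lib.KnownB.PSLAut.Unitary
import Cfsg.Agent.Lib.Geometry.SymplecticBasis

/-!
Field automorphisms of prime order of `PSp_{2m}(F)`: their cosets in the inner-diagonal group, centralisers and
class splitting.
-/

set_option autoImplicit false

namespace CfsgLib.KnownB.PSpAut

open Matrix CfsgLib.Classical CfsgLib.KnownB.Descent

universe u v

variable {m : ℕ} {F : Type u} [Field F]

local notation "Sp" => Matrix.symplecticGroup (Fin m) F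
local notation "PG" => Cfsg.PSp m F
local notation "M2" => Matrix (Fin m ⊕ Fin m) (Fin m ⊕ Fin m) F
local notation "V" => (Fin m ⊕ Fin m → F)
set_option quotPrecheck false in
local notation "DD" => MonoidHom.range (δ : Cfsg.GSp m F →* MulAut (Cfsg.PSp m F))

theorem mem_GSp_iff_mat {g : GL (Fin m ⊕ Fin m) F} :
    g ∈ Cfsg.GSp m F ↔ ∃ c : Fˣ, (g : M2)ᵀ * Matrix.J (Fin m) F * (g : M2) = (c : F) • Matrix.J (Fin m) F := by
  rw [mem_GSp_iff]
  refine exists_congr fun c => ⟨fun h => ?_, fun h u v => ?_⟩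
  · ext i j
    have := h (Pi.single i 1) (Pi.single j 1)
    rw [sbil_eq_toBilin, sbil] at this
    simpa using this
  · rw [sbil_eq_toBilin, h, sbil, Matrix.smul_mulVec, dotProduct_smul, smul_eq_mul]

theorem J_map {L : Type v} [Field L] (ι : L →+* F) :
    (Matrix.J (Fin m) L).map ι = Matrix.J (Fin m) F := by
  ext i j
  rcases i with i | i <;> rcases j with j | j <;> simp [Matrix.J, Matrix.one_apply, apply_ite ι]

theorem map_mem_GSp {L : Type v} [Field L] (ι : L →+* F) (g : Cfsg.GSp m L) :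
    GeneralLinearGroup.map ι g.1 ∈ Cfsg.GSp m F := by
  obtain ⟨c, hc⟩ := mem_GSp_iff_mat.1 g.2
  refine mem_GSp_iff_mat.2 ⟨Units.map (ι : L →* F) c, ?_⟩
  have h := congrArg (fun X : Matrix (Fin m ⊕ Fin m) (Fin m ⊕ Fin m) L => X.map ι) hc
  simp only [Matrix.map_mul, Matrix.transpose_map, J_map] at h
  refine h.trans (Matrix.ext fun i j => ?_)
  have := congrFun (congrFun (J_map (m := m) ι) i) j
  simp [← this]

/-- Base change of similitudes. -/
def gmap {L : Type v} [Field L] (ι : L →+* F) : Cfsg.GSp m L →* Cfsg.GSp m F :=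
  ((GeneralLinearGroup.map (n := Fin m ⊕ Fin m) ι).comp (Subgroup.subtype _)).codRestrict _ (map_mem_GSp ι)

@[simp] theorem gmap_coe {L : Type v} [Field L] (ι : L →+* F) (g : Cfsg.GSp m L) :
    (((gmap ι g).1 : GL (Fin m ⊕ Fin m) F) : M2) =
      ((g.1 : GL (Fin m ⊕ Fin m) L) : Matrix (Fin m ⊕ Fin m) (Fin m ⊕ Fin m) L).map ι := rfl

theorem fld_δ (σ : F ≃+* F) (g : Cfsg.GSp m F) :
    fld σ * δ g = (δ (gmap (σ : F →+* F) g) * fld σ : MulAut PG) := by
  refine MulEquiv.ext fun x => ?_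
  induction x using QuotientGroup.induction_on with
  | H s =>
    refine congrArg _ (Subtype.ext ?_)
    change ((g.1 : M2) * s.1 * ((g.1⁻¹ : GL (Fin m ⊕ Fin m) F) : M2)).map (σ : F →+* F) = _
    rw [Matrix.map_mul, Matrix.map_mul]
    rfl

section NeZero

variable [NeZero m]

theorem mult_unique {g : Cfsg.GSp m F} {c c' : Fˣ}
    (h : ∀ u v, sbil ((g.1 : M2) *ᵥ u) ((g.1 : M2) *ᵥ v) = (c : F) * sbil u v)
    (h' : ∀ u v, sbil ((g.1 : M2) *ᵥ u) ((g.1 : M2) *ᵥ v) = (c' : F) * sbil u v) : c = c' := by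
  refine Units.ext ?_
  have := (h (bas (Sum.inr 0)) (bas (Sum.inl 0))).symm.trans (h' _ _)
  rwa [sbil_bas_pair, mul_one, mul_one] at this

theorem exists_mult (g : Cfsg.GSp m F) : ∃ c : Fˣ, ∀ u v,
    sbil ((g.1 : M2) *ᵥ u) ((g.1 : M2) *ᵥ v) = (c : F) * sbil u v := mem_GSp_iff.1 g.2

/-- The multiplier. -/
noncomputable def mult : Cfsg.GSp m F →* Fˣ where
  toFun g := (exists_mult g).choose
  map_one' := mult_unique (exists_mult 1).choose_spec fun u v => by
    rw [OneMemClass.coe_one, Units.val_one, Matrix.one_mulVec, Matrix.one_mulVec, Units.val_one, one_mul]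
  map_mul' g h := mult_unique (exists_mult (g * h)).choose_spec fun u v => by
    rw [Subgroup.coe_mul, Units.val_mul, ← Matrix.mulVec_mulVec, ← Matrix.mulVec_mulVec,
      (exists_mult g).choose_spec, (exists_mult h).choose_spec, Units.val_mul, mul_assoc]

theorem mult_spec (g : Cfsg.GSp m F) (u v : V) :
    sbil ((g.1 : M2) *ᵥ u) ((g.1 : M2) *ᵥ v) = (mult g : F) * sbil u v := (exists_mult g).choose_spec u v

theorem mult_eq {g : Cfsg.GSp m F} {c : F}
    (h : ∀ u v, sbil ((g.1 : M2) *ᵥ u) ((g.1 : M2) *ᵥ v) = c * sbil u v) : (mult g : F) = c := by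
  have := (mult_spec g (bas (Sum.inr 0)) (bas (Sum.inl 0))).symm.trans (h _ _)
  rwa [sbil_bas_pair, mul_one, mul_one] at this

theorem mult_surjective : Function.Surjective (mult : Cfsg.GSp m F →* Fˣ) := fun c => by
  refine ⟨diagGSp 1 c, Units.ext (mult_eq fun u v => ?_)⟩
  show sbil _ _ = (c : F) * sbil u v
  simp only [diagGSp, sbil_apply, Matrix.mulVec_diagonal, Sum.elim_inl, Sum.elim_inr, Finset.mul_sum]
  exact Finset.sum_congr rfl fun j _ => by field_simp

theorem scalar_of_fix (hm : 2 ≤ m) {g : Cfsg.GSp m F} {σ : F ≃+* F} (S : F → Prop) (h1 : S 1)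
    (h : ∀ (a : F) (v : V), S a → (∀ i, v i = 0 ∨ v i = 1) → (δ g * fld σ : MulAut PG) (T a v) = T a v) :
    (∀ a, S a → σ a = a) ∧ ∃ t : F, t ≠ 0 ∧ (g.1 : M2) = t • 1 := by
  set c := (mult g : F)
  have hfix : ∀ v : V, (∀ i, v i = 0 ∨ v i = 1) → σ ∘ v = v := fun v hv => funext fun i => by
    rcases hv i with e | e <;> simp [e]
  have hv : ∀ (a : F) (v : V), S a → (∀ i, v i = 0 ∨ v i = 1) → T (σ a / c) ((g.1 : M2) *ᵥ v) = T a v := by
    intro a v ha hv
    have h' := h a v ha hv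
    rw [MulAut.mul_apply, fld_T, T, δ_mk, conjSp_stv g (mult_spec g), hfix v hv] at h'
    exact h'
  have hbas : ∀ (k i : Fin m ⊕ Fin m), (bas k : V) i = 0 ∨ (bas k : V) i = 1 := fun k i => by
    by_cases e : i = k <;> simp [bas, e]
  have hpar : ∀ v : V, v ≠ 0 → (∀ i, v i = 0 ∨ v i = 1) → ∃ t : F, t ≠ 0 ∧ (g.1 : M2) *ᵥ v = t • v := by
    intro v hv0 h01
    obtain ⟨t, ht, h'⟩ := par_of_stv_eq one_ne_zero hv0 (stv_eq_of_mk hm (hv 1 v h1 h01).symm)
    exact ⟨t⁻¹, inv_ne_zero ht, ((inv_smul_eq_iff₀ ht).2 h').symm⟩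
  choose d hd0 hd using fun k => hpar (bas k) (bas_ne_zero k) (hbas k)
  have hσ : ∀ a, S a → σ a * (d (Sum.inl 0) ^ 2 / c) = a := fun a ha => by
    refine T_inj hm (bas_ne_zero (Sum.inl (0 : Fin m))) ?_
    have h' := hv a (bas (Sum.inl 0)) ha (hbas _)
    rw [hd, T_smul] at h'
    rw [← h']
    ring_nf
  have e1 := hσ 1 h1
  rw [map_one, one_mul] at e1
  refine ⟨fun a ha => ?_, d (Sum.inl 0), hd0 _, Matrix.ext fun r k => ?_⟩
  · have := hσ a ha
    rwa [e1, mul_one] at this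
  · have hk : d k = d (Sum.inl 0) := by
      by_cases hk : k = Sum.inl 0
      · rw [hk]
      have h01 : ∀ i, (bas k + bas (Sum.inl 0) : V) i = 0 ∨ (bas k + bas (Sum.inl 0) : V) i = 1 := fun i => by
        by_cases e : i = k
        · simp [bas, e, hk]
        · simpa [bas, e] using hbas (Sum.inl 0) i
      have hne : (bas k + bas (Sum.inl 0) : V) ≠ 0 := fun h0 => by
        simpa [bas, hk] using congrFun h0 k
      obtain ⟨t, -, ht⟩ := hpar _ hne h01
      rw [Matrix.mulVec_add, hd, hd] at ht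
      have f1 := congrFun ht k
      have f2 := congrFun ht (Sum.inl 0)
      simp [bas, hk, Ne.symm hk] at f1 f2
      rw [f1, f2]
    have e := congrFun (hd k) r
    simp [bas, hk] at e
    rw [e]
    rcases eq_or_ne r k with rfl | hne <;> simp [*]

theorem eq_smul_of_δ_fld (hm : 2 ≤ m) {g : Cfsg.GSp m F} {σ : F ≃+* F} (h : δ g * fld σ = (1 : MulAut PG)) :
    σ = 1 ∧ ∃ a : F, a ≠ 0 ∧ (g.1 : M2) = a • 1 := by
  obtain ⟨h1, h2⟩ := scalar_of_fix hm (g := g) (σ := σ) (fun _ => True) trivial (fun a v _ _ => by rw [h]; rfl)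
  exact ⟨RingEquiv.ext fun a => h1 a trivial, h2⟩

theorem δ_scalar {g : Cfsg.GSp m F} {a : F} (ha : a ≠ 0) (h : (g.1 : M2) = a • 1) : (δ g : MulAut PG) = 1 := by
  refine MulEquiv.ext fun x => ?_
  induction x using QuotientGroup.induction_on with
  | H s =>
    refine congrArg _ (Subtype.ext ?_)
    show (g.1 : M2) * s.1 * ((g.1⁻¹ : GL (Fin m ⊕ Fin m) F) : M2) = s.1
    rw [h, smul_mul_assoc, one_mul, smul_mul_assoc, ← mul_smul_comm]
    have := g.1.mul_inv
    rw [h, smul_mul_assoc, one_mul] at this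
    rw [this, mul_one]

theorem δ_eq_iff (hm : 2 ≤ m) (g h : Cfsg.GSp m F) :
    (δ g : MulAut PG) = δ h ↔ ∃ a : F, a ≠ 0 ∧ (h.1 : M2) = a • (g.1 : M2) := by
  constructor
  · intro e
    obtain ⟨-, a, ha, h'⟩ := eq_smul_of_δ_fld hm (g := g⁻¹ * h) (σ := 1)
      (by rw [map_mul, map_inv, e, inv_mul_cancel, map_one, mul_one])
    refine ⟨a, ha, ?_⟩
    have h'' := congrArg ((g.1 : M2) * ·) h'
    simp only [Subgroup.coe_mul, Subgroup.coe_inv, Units.val_mul, mul_smul_comm, mul_one] at h''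
    rwa [← mul_assoc, Units.mul_inv, one_mul] at h''
  · rintro ⟨a, ha, e⟩
    have h1 : (δ (g⁻¹ * h) : MulAut PG) = 1 := δ_scalar ha (by
      rw [Subgroup.coe_mul, Subgroup.coe_inv, Units.val_mul, e, mul_smul_comm, Units.inv_mul])
    rw [map_mul, map_inv, inv_mul_eq_one] at h1
    exact h1

theorem fld_injective (hm : 2 ≤ m) : Function.Injective (fld : (F ≃+* F) → MulAut PG) :=
  (injective_iff_map_eq_one _).2 fun σ h => (eq_smul_of_δ_fld hm (g := 1) (by rw [map_one, one_mul, h])).1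

theorem δ_mem_inn_iff (hm : 2 ≤ m) (g : Cfsg.GSp m F) :
    (δ g : MulAut PG) ∈ Cfsg.Inn PG ↔ mult g ∈ (powMonoidHom 2 : Fˣ →* Fˣ).range := by
  constructor
  · rintro ⟨x, hx⟩
    induction x using QuotientGroup.induction_on with
    | H s =>
      rw [← δ_spGSp] at hx
      obtain ⟨a, ha, e⟩ := (δ_eq_iff hm _ g).1 hx
      refine ⟨Units.mk0 a ha, Units.ext (mult_eq fun u v => ?_).symm⟩
      rw [powMonoidHom_apply, Units.val_pow_eq_pow_val, Units.val_mk0, e, Matrix.smul_mulVec, Matrix.smul_mulVec,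
        sbil_smul_left, sbil_smul_right]
      show a * (a * sbil (s.1 *ᵥ u) (s.1 *ᵥ v)) = _
      rw [sbil_mulVec]
      ring
  · rintro ⟨t, ht⟩
    have hmem : ((t⁻¹ : Fˣ) : F) • (g.1 : M2) ∈ Matrix.symplecticGroup (Fin m) F := by
      refine mem_symplecticGroup_iff_sbil.2 fun u v => ?_
      rw [Matrix.smul_mulVec, Matrix.smul_mulVec, sbil_smul_left, sbil_smul_right, mult_spec, ← ht,
        powMonoidHom_apply, Units.val_pow_eq_pow_val, Units.val_inv_eq_inv_val]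
      field_simp
    refine ⟨QuotientGroup.mk (⟨_, hmem⟩ : Sp), ?_⟩
    rw [← δ_spGSp, δ_eq_iff hm]
    refine ⟨(t : F), t.ne_zero, ?_⟩
    show _ = (t : F) • (((t⁻¹ : Fˣ) : F) • (g.1 : M2))
    rw [smul_smul, Units.mul_inv, one_smul]

theorem inn_le_range : Cfsg.Inn PG ≤ DD := by
  rintro _ ⟨x, rfl⟩
  induction x using QuotientGroup.induction_on with
  | H s => exact ⟨spGSp s, δ_spGSp s⟩

theorem range_normal [Finite F] (hm : 2 ≤ m) : (DD).Normal := by
  by_cases h2 : (2 : F) = 0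
  · have hsq : ∀ u : Fˣ, u ∈ (powMonoidHom 2 : Fˣ →* Fˣ).range := by
      have hinj : Function.Injective (powMonoidHom 2 : Fˣ →* Fˣ) := fun x y h => by
        have h' : (x : F) ^ 2 = (y : F) ^ 2 := congrArg Units.val h
        have : ((x : F) - y) ^ 2 = 0 := by linear_combination h' + ((y : F) ^ 2 - x * y) * h2
        exact Units.ext (sub_eq_zero.1 (by simpa using this))
      exact fun u => Finite.surjective_of_injective hinj u
    rw [le_antisymm (fun _ ⟨g, hg⟩ => hg ▸ (δ_mem_inn_iff hm g).2 (hsq _)) inn_le_range]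
    exact Cfsg.innNormal PG
  · have key : ∀ α : MulAut PG, α ∈ Subgroup.normalizer (DD : Set (MulAut PG)) := by
      intro α
      have hα : α ∈ Cfsg.gammaPSp m F := by rw [gammaPSp_eq_top hm fun _ => h2]; trivial
      revert hα α
      show Cfsg.gammaPSp m F ≤ _
      refine (Subgroup.closure_le _).2 ?_
      rintro β ⟨g, σ, hg, h⟩
      rw [(isInducedBySemilinearPSp_iff ⟨g, hg⟩ σ β).1 h, SetLike.mem_coe]
      refine mul_mem (Subgroup.le_normalizer ⟨_, rfl⟩) ?_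
      rw [Subgroup.mem_normalizer_iff]
      intro d
      constructor
      · rintro ⟨k, rfl⟩
        exact ⟨gmap (σ : F →+* F) k, by rw [fld_δ, mul_inv_cancel_right]⟩
      · rintro ⟨k, hk⟩
        refine ⟨gmap (σ⁻¹ : F ≃+* F).toRingHom k, mul_left_cancel (a := (fld σ : MulAut PG)) ?_⟩
        refine mul_right_cancel (b := (fld σ : MulAut PG)⁻¹) ?_
        rw [← hk, fld_δ, mul_inv_cancel_right]
        congr 1
        refine Subtype.ext (Units.ext (Matrix.ext fun i j => ?_))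
        exact σ.apply_symm_apply _
    exact ⟨fun d hd α => (Subgroup.mem_normalizer_iff.1 (key α) d).1 hd⟩

theorem fieldClass_iff (hm : 2 ≤ m) {x : MulAut PG} (hx : Cfsg.IsFieldAutClassPSp x) :
    ∃ (α : MulAut PG) (σ : F ≃+* F), α * x * α⁻¹ = fld σ ∧ orderOf σ = orderOf x := by
  obtain ⟨α, σ, -, h⟩ := hx
  rw [isStdFieldAutPSp_iff] at h
  refine ⟨α, σ, h, ?_⟩
  rw [← orderOf_injective fld (fld_injective (m := m) hm), ← h]
  exact MulEquiv.orderOf_eq (MulAut.conj α) x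

/-- A non-degenerate alternating matrix is congruent to `J`. -/
theorem alt_factor {K : Type u} [Field K] {A : Matrix (Fin m ⊕ Fin m) (Fin m ⊕ Fin m) K} (hA : IsUnit A)
    (halt : ∀ v, v ⬝ᵥ A *ᵥ v = 0) :
    ∃ Q : Matrix (Fin m ⊕ Fin m) (Fin m ⊕ Fin m) K, IsUnit Q ∧ Qᵀ * A * Q = Matrix.J (Fin m) K := by
  classical
  set B : LinearMap.BilinForm K (Fin m ⊕ Fin m → K) := Matrix.toBilin' A with hB
  have hBap : ∀ u v, B u v = u ⬝ᵥ A *ᵥ v := fun u v => Matrix.toBilin'_apply' A u v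
  have hBA : B.IsAlt := fun v => (hBap v v).trans (halt v)
  obtain ⟨m', k, b, h1, h2, h3, h4⟩ := Geometry.exists_sympBasis_aux _ rfl B hBA
  have hk : k = 0 := by
    by_contra hk
    let j : Fin k := ⟨0, Nat.pos_of_ne_zero hk⟩
    refine b.ne_zero (Sum.inr j) ?_
    have h0 : b (Sum.inr j) ᵥ* A = 0 := funext fun i => by
      have := h4 j (Pi.single i 1)
      rw [hBap, Matrix.dotProduct_mulVec, dotProduct_single, mul_one] at this
      exact this
    have := congrArg (fun w => w ᵥ* hA.unit.inv) h0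
    simp only [Matrix.vecMul_vecMul, Matrix.zero_vecMul] at this
    rwa [show A * hA.unit.inv = 1 from hA.unit.mul_inv, Matrix.vecMul_one] at this
  subst hk
  have hm' : m = m' := by
    have h := Module.finrank_eq_card_basis b
    rw [Module.finrank_pi, Fintype.card_sum, Fintype.card_sum, Fintype.card_sum, Fintype.card_fin, Fintype.card_fin,
      Fintype.card_fin] at h
    omega
  subst hm'
  refine ⟨Matrix.of fun r c => b (Sum.inl c.swap) r, ?_, ?_⟩
  · rw [← Matrix.linearIndependent_cols_iff_isUnit]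
    exact b.linearIndependent.comp _ (Sum.inl_injective.comp Sum.swap_leftInverse.injective)
  · ext i j
    set Q : Matrix (Fin m ⊕ Fin m) (Fin m ⊕ Fin m) K := Matrix.of fun r c => b (Sum.inl c.swap) r
    have hij : (Qᵀ * A * Q) i j = B (b (Sum.inl i.swap)) (b (Sum.inl j.swap)) := by
      rw [hBap, mul_assoc]
      simp only [Matrix.mul_apply, Matrix.transpose_apply, dotProduct, Matrix.mulVec, Q, Matrix.of_apply]
    rw [hij]
    rcases i with i | i <;> rcases j with j | j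
    · simpa [Matrix.J] using h3 i j
    · have := hBA.neg_eq (b (Sum.inl (Sum.inl j))) (b (Sum.inl (Sum.inr i)))
      simp [Matrix.J, Matrix.one_apply, ← this, h1, eq_comm]
    · simpa [Matrix.J, Matrix.one_apply] using h1 i j
    · simpa [Matrix.J] using h2 i j

local notation "e2" => (finSumFinEquiv (m := m) (n := m))

/-- Reindexing to `Fin (m + m)`. -/
def rein (A : M2) : Matrix (Fin (m + m)) (Fin (m + m)) F := A.submatrix (e2).symm (e2).symm

theorem rein_mul (A B : M2) : rein (A * B) = rein A * rein B := (Matrix.submatrix_mul_equiv A B _ _ _).symm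

theorem rein_map (A : M2) (σ : F ≃+* F) : rein (A.map σ) = (rein A).map σ := rfl

theorem rein_injective : Function.Injective (rein : M2 → Matrix (Fin (m + m)) (Fin (m + m)) F) := fun A B h => by
  ext i j
  simpa [rein] using congrFun (congrFun h (e2 i)) (e2 j)

theorem rein_one : rein (1 : M2) = 1 := Matrix.submatrix_one_equiv _

theorem rein_smul (a : F) (A : M2) : rein (a • A) = a • rein A := rfl

theorem fixed_scalar {σ : F ≃+* F} {r : ℕ} (hr : 0 < r) (hσ : orderOf σ = r) {A : M2} (hA : A ≠ 0) {c : F}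
    (h : A.map σ = c • A) : ∃ a : F, a ≠ 0 ∧ (a • A).map σ = a • A := by
  have : NeZero (m + m) := ⟨by have := NeZero.ne m; omega⟩
  obtain ⟨a, ha, h'⟩ := fixed_up_to_scalar hr hσ (g := rein A)
    (fun h0 => hA (rein_injective (h0.trans rfl))) (c := c) (by rw [← rein_map, h, rein_smul])
  exact ⟨a, ha, rein_injective (by rw [rein_map, rein_smul, h'])⟩

/-- Elements of order `r` in the coset of a standard field automorphism. -/
theorem field_coset [Finite F] (hm : 2 ≤ m) {σ : F ≃+* F} {r : ℕ} (hr : 0 < r) (hσ : orderOf σ = r) :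
    ∀ d ∈ DD, orderOf (d * fld σ) = r → Cfsg.IsConjUnder DD (fld σ) (d * fld σ) := by
  classical
  have : NeZero (m + m) := ⟨by omega⟩
  rintro _ ⟨g, rfl⟩ ho
  have hp : ∀ k, ∃ G : Cfsg.GSp m F, rein (G.1 : M2) = sprod (rein (g.1 : M2)) σ k ∧
      (δ g * fld σ : MulAut PG) ^ k = δ G * fld (σ ^ k) := by
    intro k
    induction k with
    | zero => exact ⟨1, rein_one, by simp⟩
    | succ k ih =>
      obtain ⟨G, hG, he⟩ := ih
      refine ⟨g * gmap (σ : F →+* F) G, ?_, ?_⟩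
      · rw [Subgroup.coe_mul, Units.val_mul, gmap_coe, rein_mul, sprod, ← hG]
        rfl
      · rw [pow_succ', he, mul_assoc (δ g), ← mul_assoc (fld σ), fld_δ, mul_assoc, ← map_mul, ← mul_assoc,
          ← map_mul, ← pow_succ']
  obtain ⟨G, hG, he⟩ := hp r
  rw [← ho, pow_orderOf_eq_one, ho, ← hσ, pow_orderOf_eq_one, map_one, mul_one, eq_comm,
    ← map_one (δ : Cfsg.GSp m F →* MulAut PG), eq_comm, δ_eq_iff hm] at he
  obtain ⟨c, -, hc⟩ := he
  rw [OneMemClass.coe_one, Units.val_one] at hc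
  rw [hc, rein_smul, rein_one] at hG
  obtain ⟨P, a, ha, hP⟩ := descent_scalar hr hσ (g := rein (g.1 : M2))
    (by rw [Matrix.isUnit_iff_isUnit_det, rein, Matrix.det_submatrix_equiv_self,
          ← Matrix.isUnit_iff_isUnit_det]; exact g.1.isUnit) hG.symm
  set P₁ : M2 := (P : Matrix (Fin (m + m)) (Fin (m + m)) F).submatrix e2 e2 with hP₁
  have hreinP : rein P₁ = P := by
    ext i j
    simp [rein, hP₁]
  have hP₁' : (a • (g.1 : M2)) * P₁.map σ = P₁ := rein_injective (by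
    rw [rein_mul, rein_map, rein_smul, hreinP, hP])
  have hP₁u : IsUnit P₁ := by
    rw [Matrix.isUnit_iff_isUnit_det, hP₁, Matrix.det_submatrix_equiv_self, ← Matrix.isUnit_iff_isUnit_det]
    exact P.isUnit
  obtain ⟨c₀, hc₀⟩ := mem_GSp_iff_mat.1 g.2
  set A : M2 := P₁ᵀ * Matrix.J (Fin m) F * P₁ with hA
  have hAσ : A.map σ = (a ^ 2 * (c₀ : F))⁻¹ • A := by
    have e1 : (a ^ 2 * (c₀ : F)) • A.map σ = A := by
      rw [hA]
      conv_rhs => rw [← hP₁', smul_mul_assoc, Matrix.transpose_smul, Matrix.transpose_mul, smul_mul_assoc,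
        smul_mul_assoc, mul_smul_comm, smul_smul, mul_assoc _ (g.1 : M2)ᵀ, mul_assoc,
        ← mul_assoc _ (g.1 : M2), hc₀, smul_mul_assoc, mul_smul_comm, smul_smul]
      rw [Matrix.map_mul, Matrix.map_mul, Matrix.transpose_map,
        show (Matrix.J (Fin m) F).map σ = _ from J_map (σ : F →+* F), sq]
      simp only [mul_assoc]
    have hne : a ^ 2 * (c₀ : F) ≠ 0 := mul_ne_zero (pow_ne_zero 2 ha) c₀.ne_zero
    exact (inv_smul_eq_iff₀ hne).2 e1.symm |>.symm
  have hAu : IsUnit A := by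
    refine ((Matrix.isUnit_transpose _).2 hP₁u).mul ?_ |>.mul hP₁u
    exact (Matrix.isUnit_iff_isUnit_det _).2 (Matrix.isUnit_det_J _ _)
  obtain ⟨b, hb, hbA⟩ := fixed_scalar hr hσ hAu.ne_zero hAσ
  let K : Subfield F := RingHom.eqLocusField (σ : F →+* F) (RingHom.id F)
  let A₀ : Matrix (Fin m ⊕ Fin m) (Fin m ⊕ Fin m) K :=
    Matrix.of fun i j => ⟨(b • A) i j, congrFun (congrFun hbA i) j⟩
  have hA₀ : A₀.map K.subtype = b • A := rfl
  obtain ⟨Q, hQ, hQA⟩ := alt_factor (A := A₀)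
    (by
      rw [Matrix.isUnit_iff_isUnit_det, isUnit_iff_ne_zero]
      intro h0
      have := congrArg K.subtype h0
      rw [RingHom.map_det, RingHom.mapMatrix_apply, hA₀, map_zero, Matrix.det_smul] at this
      exact (mul_ne_zero (pow_ne_zero _ hb) ((Matrix.isUnit_iff_isUnit_det _).1 hAu).ne_zero) this)
    (by
      intro v
      refine K.subtype.injective ?_
      rw [RingHom.map_dotProduct, map_zero]
      have h' : (K.subtype ∘ (A₀ *ᵥ v)) = (b • A) *ᵥ (K.subtype ∘ v) := by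
        funext i
        rw [Function.comp_apply, RingHom.map_mulVec]
        rfl
      rw [h', Matrix.smul_mulVec, dotProduct_smul, hA, ← Matrix.mulVec_mulVec, ← Matrix.mulVec_mulVec,
        Matrix.dotProduct_mulVec _ P₁ᵀ, Matrix.vecMul_transpose]
      show b • sbil (P₁ *ᵥ _) (P₁ *ᵥ _) = 0
      rw [sbil_self, smul_zero])
  have hQu : IsUnit (Q.map K.subtype) := hQ.map K.subtype.mapMatrix
  set P₂ : GL (Fin m ⊕ Fin m) F := (hP₁u.mul hQu).unit with hP₂
  have hP₂c : (P₂ : M2) = P₁ * Q.map K.subtype := rfl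
  have hQσ : (Q.map K.subtype).map σ = Q.map K.subtype := by
    ext i j
    exact (Q i j).2
  have hP₂mem : P₂ ∈ Cfsg.GSp m F := by
    refine mem_GSp_iff_mat.2 ⟨(Units.mk0 b hb)⁻¹, ?_⟩
    have h := congrArg (fun X : Matrix (Fin m ⊕ Fin m) (Fin m ⊕ Fin m) K => X.map K.subtype) hQA
    simp only [Matrix.map_mul, Matrix.transpose_map, hA₀, J_map] at h
    rw [mul_smul_comm, smul_mul_assoc, hA] at h
    rw [hP₂c, Matrix.transpose_mul, Units.val_inv_eq_inv_val, Units.val_mk0]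
    conv_rhs => rw [← h, smul_smul, inv_mul_cancel₀ hb, one_smul]
    simp only [mul_assoc]
  refine ⟨δ ⟨P₂, hP₂mem⟩, ⟨_, rfl⟩, ?_⟩
  rw [mul_assoc (δ ⟨P₂, hP₂mem⟩), ← map_inv, fld_δ, ← mul_assoc, ← map_mul]
  congr 1
  rw [eq_comm, δ_eq_iff hm]
  refine ⟨a⁻¹, inv_ne_zero ha, ?_⟩
  rw [Subgroup.coe_mul, Units.val_mul, gmap_coe, Subgroup.coe_inv, eq_comm]
  have hrel : (g.1 : M2) * (P₂ : M2).map σ = a⁻¹ • (P₂ : M2) := by
    rw [hP₂c, Matrix.map_mul, hQσ, ← mul_assoc]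
    conv_rhs => rw [← hP₁', smul_mul_assoc, smul_mul_assoc, smul_smul, inv_mul_cancel₀ ha, one_smul]
  have hinv : ((P₂ : M2)).map σ * (((P₂⁻¹ : GL (Fin m ⊕ Fin m) F) : M2)).map σ = 1 := by
    rw [← Matrix.map_mul, Units.mul_inv, Matrix.map_one σ σ.map_zero σ.map_one]
  calc a⁻¹ • ((P₂ : M2) * (((P₂⁻¹ : GL (Fin m ⊕ Fin m) F) : M2)).map σ)
      = (a⁻¹ • (P₂ : M2)) * (((P₂⁻¹ : GL (Fin m ⊕ Fin m) F) : M2)).map σ := (smul_mul_assoc _ _ _).symm
    _ = (g.1 : M2) := by rw [← hrel, mul_assoc, hinv, mul_one]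

theorem comm_fld_iff (hm : 2 ≤ m) (σ : F ≃+* F) (g : Cfsg.GSp m F) :
    δ g * fld σ = (fld σ * δ g : MulAut PG) ↔ ∃ c : F, c ≠ 0 ∧ (g.1 : M2).map σ = c • (g.1 : M2) := by
  rw [fld_δ, mul_left_inj, δ_eq_iff hm, gmap_coe]
  rfl

/-- A centralised similitude comes from the fixed field. -/
theorem exists_preimage (hm : 2 ≤ m) {σ : F ≃+* F} {r : ℕ} (hr : 0 < r) (hσ : orderOf σ = r)
    {F₀ : Type v} [Field F₀] (ι : F₀ →+* F) (hι : ∀ x, σ x = x ↔ ∃ y, ι y = x) (g : Cfsg.GSp m F)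
    (hc : δ g * fld σ = (fld σ * δ g : MulAut PG)) :
    ∃ (h : Cfsg.GSp m F₀) (a : F), a ≠ 0 ∧ (((gmap ι h).1 : GL (Fin m ⊕ Fin m) F) : M2) = a • (g.1 : M2) := by
  obtain ⟨c, -, hc⟩ := (comm_fld_iff hm σ g).1 hc
  obtain ⟨a, ha0, ha⟩ := fixed_scalar hr hσ g.1.isUnit.ne_zero hc
  choose M hM using fun i j => (hι _).1 (congrFun (congrFun ha i) j)
  have hM' : (Matrix.of M).map ι = a • (g.1 : M2) := by ext i j; exact hM i j
  have hdet : (Matrix.of M).det ≠ 0 := fun h0 => by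
    have := congrArg ι h0
    rw [RingHom.map_det, map_zero, RingHom.mapMatrix_apply, hM', Matrix.det_smul] at this
    exact (mul_ne_zero (pow_ne_zero _ ha0) (GeneralLinearGroup.det g.1).ne_zero) this
  refine ⟨⟨GeneralLinearGroup.mkOfDetNeZero _ hdet, ?_⟩, a, ha0, hM'⟩
  obtain ⟨c₁, hc₁⟩ := mem_GSp_iff_mat.1 g.2
  have h1 : ((Matrix.of M)ᵀ * Matrix.J (Fin m) F₀ * Matrix.of M).map ι =
      (a * a * c₁) • Matrix.J (Fin m) F := by
    rw [Matrix.map_mul, Matrix.map_mul, Matrix.transpose_map, J_map, hM', Matrix.transpose_smul, smul_mul_assoc,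
      smul_mul_assoc, mul_smul_comm, smul_smul, hc₁, smul_smul]
  let i₁ : Fin m ⊕ Fin m := Sum.inr 0
  let j₁ : Fin m ⊕ Fin m := Sum.inl 0
  set t := ((Matrix.of M)ᵀ * Matrix.J (Fin m) F₀ * Matrix.of M) i₁ j₁
  have ht : ι t = a * a * c₁ := by
    have := congrFun (congrFun h1 i₁) j₁
    rw [Matrix.map_apply] at this
    refine this.trans ?_
    simp [Matrix.J, i₁, j₁]
  have ht0 : t ≠ 0 := fun h => mul_ne_zero (mul_ne_zero ha0 ha0) c₁.ne_zero (by rw [← ht, h, map_zero])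
  refine mem_GSp_iff_mat.2 ⟨Units.mk0 t ht0, ?_⟩
  show (Matrix.of M)ᵀ * Matrix.J (Fin m) F₀ * Matrix.of M = t • Matrix.J (Fin m) F₀
  refine Matrix.map_injective ι.injective ?_
  dsimp only
  rw [h1, ← ht]
  ext i j
  have := congrFun (congrFun (J_map (m := m) ι) i) j
  simp [← this]

/-- Centraliser of a standard field automorphism. -/
theorem field_centralizer [Finite F] (hm : 2 ≤ m) {σ : F ≃+* F} {r : ℕ} (hr : 0 < r) (hσ : orderOf σ = r)
    {F₀ : Type v} [Field F₀] (ι : F₀ →+* F) (hι : ∀ x, σ x = x ↔ ∃ y, ι y = x) :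
    Nonempty (↥(DD ⊓ Subgroup.centralizer {(fld σ : MulAut PG)}) ≃* Cfsg.PGSp m F₀) := by
  let ψ : Cfsg.GSp m F₀ →* MulAut PG := (δ : Cfsg.GSp m F →* MulAut PG).comp (gmap ι)
  have hrange : DD ⊓ Subgroup.centralizer {(fld σ : MulAut PG)} = ψ.range := by
    ext β
    rw [Subgroup.mem_inf, Subgroup.mem_centralizer_singleton_iff]
    constructor
    · rintro ⟨⟨g, rfl⟩, hc⟩
      obtain ⟨h, a, ha, e⟩ := exists_preimage hm hr hσ ι hι g hc
      refine ⟨h, ?_⟩
      rw [MonoidHom.comp_apply, eq_comm, δ_eq_iff hm]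
      exact ⟨a, ha, e⟩
    · rintro ⟨h, rfl⟩
      refine ⟨⟨_, rfl⟩, (comm_fld_iff hm σ _).2 ⟨1, one_ne_zero, ?_⟩⟩
      rw [one_smul, gmap_coe]
      ext i j
      exact (hι _).2 ⟨_, rfl⟩
  have hker : ψ.ker = (Cfsg.Geo.scalars (Fin m ⊕ Fin m) F₀).subgroupOf (Cfsg.GSp m F₀) := by
    ext h
    rw [MonoidHom.mem_ker, MonoidHom.comp_apply, Subgroup.mem_subgroupOf, Cfsg.Geo.mem_scalars_iff]
    constructor
    · intro e
      obtain ⟨-, a, ha, hd⟩ := eq_smul_of_δ_fld hm (g := gmap ι h) (σ := 1) (by rw [e, map_one, mul_one])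
      rw [gmap_coe] at hd
      set t := ((h.1 : GL (Fin m ⊕ Fin m) F₀) : Matrix (Fin m ⊕ Fin m) (Fin m ⊕ Fin m) F₀) (Sum.inl 0) (Sum.inl 0)
      have ht : ι t = a := by simpa using congrFun (congrFun hd (Sum.inl 0)) (Sum.inl 0)
      refine ⟨Units.mk0 t fun h0 => ha (by rw [← ht, h0, map_zero]), Matrix.map_injective ι.injective ?_⟩
      dsimp only
      rw [hd]
      ext i j
      rcases eq_or_ne i j with rfl | hij <;> simp [*]
    · rintro ⟨c, hc⟩
      refine δ_scalar ((map_ne_zero ι).2 c.ne_zero) ?_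
      rw [gmap_coe, hc]
      ext i j
      rcases eq_or_ne i j with rfl | hij <;> simp [*]
  exact ⟨(MulEquiv.subgroupCongr hrange).trans ((QuotientGroup.quotientKerEquivRange ψ).symm.trans
    (QuotientGroup.quotientMulEquivOfEq hker))⟩

end NeZero

/-- Splitting of a class of `G` along a character `χ` with kernel above `K`. -/
theorem splitClassCount_hom {G : Type v} [Group G] {X : Type u} [Group X] {C : Type u} [CommGroup C] (D : G →* X)
    (K : Subgroup X) [K.Normal] (hK : K ≤ D.range) (χ : G →* C) (hχ : Function.Surjective χ) (R : Subgroup C)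
    (hchar : ∀ g, D g ∈ K ↔ χ g ∈ R) (x₀ : X) (L : Subgroup C)
    (hL : ((Subgroup.centralizer {x₀}).comap D).map χ ⊔ R = L ⊔ R) :
    Cfsg.splitClassCount D.range K x₀ = (L ⊔ R).index := by
  rw [← Subgroup.index_comap_of_surjective (L ⊔ R) hχ]
  set J := (L ⊔ R).comap χ with hJ
  let r : {y : X // Cfsg.IsConjUnder D.range x₀ y} → {y : X // Cfsg.IsConjUnder D.range x₀ y} → Prop :=
    fun y z => Cfsg.IsConjUnder K y.1 z.1
  have hr : Equivalence r := by
    refine ⟨fun y => ⟨1, one_mem _, by simp⟩, ?_, ?_⟩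
    · rintro y z ⟨a, ha, h⟩
      exact ⟨a⁻¹, inv_mem ha, by rw [h]; group⟩
    · rintro y z w ⟨a, ha, h⟩ ⟨b, hb, h'⟩
      exact ⟨b * a, mul_mem hb ha, by rw [h', h]; group⟩
  have hmem : ∀ g, g ∈ J ↔ ∃ l, D l * x₀ = x₀ * D l ∧ D (g * l⁻¹) ∈ K := by
    intro g
    rw [hJ, Subgroup.mem_comap, ← hL, Subgroup.mem_sup]
    constructor
    · rintro ⟨_, ⟨l, hl, rfl⟩, e, he, h⟩
      refine ⟨l, Subgroup.mem_centralizer_singleton_iff.1 hl, (hchar _).2 ?_⟩
      rw [map_mul, map_inv, ← h, mul_comm _ e, mul_inv_cancel_right]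
      exact he
    · rintro ⟨l, hl, h⟩
      refine ⟨_, ⟨l, Subgroup.mem_centralizer_singleton_iff.2 hl, rfl⟩, _, (hchar _).1 h, ?_⟩
      rw [map_mul, map_inv, mul_comm, inv_mul_cancel_right]
  let c : G → {y : X // Cfsg.IsConjUnder D.range x₀ y} := fun g => ⟨D g * x₀ * (D g)⁻¹, D g, ⟨g, rfl⟩, rfl⟩
  have hrel : ∀ a b, r (c a) (c b) ↔ a⁻¹ * b ∈ J := by
    intro a b
    rw [hmem]
    constructor
    · rintro ⟨s, hs, h⟩
      obtain ⟨t, ht⟩ := hK hs
      refine ⟨a⁻¹ * t⁻¹ * b, ?_, ?_⟩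
      · change D b * x₀ * (D b)⁻¹ = s * (D a * x₀ * (D a)⁻¹) * s⁻¹ at h
        rw [map_mul, map_mul, map_inv, map_inv, ht]
        calc (D a)⁻¹ * s⁻¹ * D b * x₀ = (D a)⁻¹ * s⁻¹ * (D b * x₀ * (D b)⁻¹) * D b := by group
          _ = x₀ * ((D a)⁻¹ * s⁻¹ * D b) := by rw [h]; group
      · rw [show a⁻¹ * b * (a⁻¹ * t⁻¹ * b)⁻¹ = a⁻¹ * t * a by group, map_mul, map_mul, map_inv, ht]
        simpa using ‹K.Normal›.conj_mem s hs (D a)⁻¹
    · rintro ⟨l, hl, hk⟩
      refine ⟨D a * D (a⁻¹ * b * l⁻¹) * (D a)⁻¹, ‹K.Normal›.conj_mem _ hk (D a), ?_⟩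
      change D b * x₀ * (D b)⁻¹ = _
      simp only [map_mul, map_inv, c]
      calc D b * x₀ * (D b)⁻¹ = D b * (D l)⁻¹ * (D l * x₀) * (D b)⁻¹ := by group
        _ = D b * (D l)⁻¹ * (x₀ * D l) * (D b)⁻¹ := by rw [hl]
        _ = _ := by group
  let φ : G ⧸ J → Quot r := Quotient.lift (fun g => Quot.mk r (c g))
    fun a b h => Quot.sound ((hrel a b).2 (QuotientGroup.leftRel_apply.1 h))
  refine (Nat.card_congr (Equiv.ofBijective φ ⟨?_, ?_⟩)).symm
  · intro a b h
    induction a using QuotientGroup.induction_on with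
    | H a =>
      induction b using QuotientGroup.induction_on with
      | H b => exact QuotientGroup.eq.2 ((hrel a b).1 (hr.eqvGen_iff.1 (Quot.eqvGen_exact h)))
  · intro q
    induction q using Quot.inductionOn with
    | h y =>
      obtain ⟨y, d, ⟨g, rfl⟩, rfl⟩ := y
      exact ⟨QuotientGroup.mk g, rfl⟩

theorem mult_centralizer [NeZero m] [Finite F] (hm : 2 ≤ m) {σ : F ≃+* F} {r : ℕ} (hr : 0 < r)
    (hσ : orderOf σ = r) {F₀ : Type v} [Field F₀] (ι : F₀ →+* F) (hι : ∀ x, σ x = x ↔ ∃ y, ι y = x) :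
    ((Subgroup.centralizer {(fld σ : MulAut PG)}).comap (δ : Cfsg.GSp m F →* MulAut PG)).map mult ⊔
        (powMonoidHom 2 : Fˣ →* Fˣ).range =
      fixedUnits σ ⊔ (powMonoidHom 2 : Fˣ →* Fˣ).range := by
  refine le_antisymm (sup_le ?_ le_sup_right) (sup_le ?_ le_sup_right)
  · rintro _ ⟨g, hg, rfl⟩
    obtain ⟨h, a, ha, e⟩ := exists_preimage hm hr hσ ι hι g (Subgroup.mem_centralizer_singleton_iff.1 hg)
    rw [show mult g = mult (gmap ι h) * (Units.mk0 a ha)⁻¹ ^ 2 by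
      rw [inv_pow, eq_mul_inv_iff_mul_eq, eq_comm]
      refine Units.ext (mult_eq fun u v => ?_)
      rw [e, Matrix.smul_mulVec, Matrix.smul_mulVec, sbil_smul_left, sbil_smul_right, mult_spec, Units.val_mul,
        Units.val_pow_eq_pow_val, Units.val_mk0]
      ring]
    refine Subgroup.mul_mem_sup ?_ ⟨_, rfl⟩
    obtain ⟨c, hc⟩ := mem_GSp_iff_mat.1 h.2
    have hc' : (mult (gmap ι h) : F) = ι c := mult_eq fun u v => by
      have h2 := congrArg (fun X : Matrix (Fin m ⊕ Fin m) (Fin m ⊕ Fin m) F₀ => X.map ι) hc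
      simp only [Matrix.map_mul, Matrix.transpose_map, J_map] at h2
      rw [sbil_eq_toBilin, gmap_coe, h2, Matrix.map_smul' _ _ _ (map_mul ι), J_map, Matrix.smul_mulVec,
        dotProduct_smul, smul_eq_mul, sbil]
    rw [mem_fixedUnits, hc', hι]
    exact ⟨_, rfl⟩
  · intro u hu
    refine Subgroup.mem_sup_left ⟨diagGSp 1 u, ?_, Units.ext (mult_eq fun a b => ?_)⟩
    · rw [SetLike.mem_coe, Subgroup.mem_comap, Subgroup.mem_centralizer_singleton_iff, comm_fld_iff hm]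
      refine ⟨1, one_ne_zero, ?_⟩
      rw [one_smul]
      show (Matrix.diagonal _).map σ = Matrix.diagonal _
      rw [Matrix.diagonal_map (map_zero σ)]
      congr 1
      funext i
      rcases i with i | i <;> simp [mem_fixedUnits.1 hu]
    · show sbil _ _ = (u : F) * sbil a b
      simp only [diagGSp, sbil_apply, Matrix.mulVec_diagonal, Sum.elim_inl, Sum.elim_inr, Finset.mul_sum]
      exact Finset.sum_congr rfl fun j _ => by field_simp

theorem gcd_arith {N p k r : ℕ} (hp : p.Prime) (hk : k ≠ 0) (hr : r ≠ 0) (h : N * (p ^ k - 1) = p ^ (r * k) - 1) :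
    Nat.gcd N (Nat.gcd (p ^ (r * k) - 1) 2) = Nat.gcd (Nat.gcd 2 (p ^ (r * k) - 1)) r := by
  rw [Nat.gcd_comm (p ^ (r * k) - 1) 2]
  rcases hp.eq_two_or_odd with rfl | hp'
  · have he : ¬ 2 ∣ 2 ^ (r * k) - 1 := by
      have : 2 ∣ 2 ^ (r * k) := dvd_pow_self 2 (mul_ne_zero hr hk)
      have := Nat.one_le_two_pow (n := r * k)
      omega
    rw [Nat.Coprime.gcd_eq_one ((Nat.prime_two.coprime_iff_not_dvd).2 he), Nat.gcd_one_right, Nat.gcd_one_left]
  · have hodd : Odd (p ^ k) := (Nat.odd_iff.2 hp').pow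
    have hdvd : 2 ∣ p ^ (r * k) - 1 := by
      rw [← h]
      exact Dvd.dvd.mul_left (by rcases hodd with ⟨l, hl⟩; omega) N
    rw [Nat.gcd_eq_left hdvd]
    have hN : N = ∑ i ∈ Finset.range r, (p ^ k) ^ i := by
      refine Nat.eq_of_mul_eq_mul_right (m := p ^ k - 1) ?_ ?_
      · have := Nat.one_lt_pow hk hp.one_lt
        omega
      · rw [h, geom_sum_mul_of_one_le (Nat.one_le_pow _ _ hp.pos), ← pow_mul, mul_comm k]
    have hmod : N % 2 = r % 2 := by
      rw [hN, Finset.sum_nat_mod, Finset.sum_congr rfl fun i _ => Nat.odd_iff.1 (hodd.pow (n := i))]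
      simp
    rw [Nat.gcd_comm N 2, Nat.gcd_rec 2 N, Nat.gcd_rec 2 r, hmod]

/-- Class splitting count of a standard field automorphism. -/
theorem field_split [NeZero m] [Fintype F] {p f r : ℕ} [Fact p.Prime] (hF : Fintype.card F = p ^ f) (hm : 2 ≤ m)
    {σ : F ≃+* F} (hr : r.Prime) (hσ : orderOf σ = r) :
    Cfsg.splitClassCount DD (Cfsg.Inn PG) (fld σ) = Nat.gcd (Nat.gcd 2 (p ^ f - 1)) r := by
  classical
  haveI := Cfsg.innNormal PG
  have hsc := fun (L : Subgroup Fˣ) hL => splitClassCount_hom (δ : Cfsg.GSp m F →* MulAut PG) _ inn_le_range mult mult_surjective (powMonoidHom 2 : Fˣ →* Fˣ).range (δ_mem_inn_iff hm) (fld σ) L hL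
  obtain ⟨hrf, hι⟩ := fixed_field hF σ hr.pos hσ
  obtain ⟨k, rfl⟩ := hrf
  have hk : k ≠ 0 := by
    rintro rfl
    have := Fintype.one_lt_card (α := F)
    simp [hF] at this
  rw [Nat.mul_div_cancel_left _ hr.pos] at hι
  let := Fintype.ofFinite (GaloisField p k)
  obtain ⟨ι, hι⟩ := hι (GaloisField p k) (by rw [← Nat.card_eq_fintype_card, GaloisField.card p _ hk])
  have h1 := mult_centralizer hm hr.pos hσ ι hι
  have h2 := hsc _ h1
  rw [h2, index_sup_cyclic]
  have h := (fixedUnits σ).index_mul_card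
  have hq : Nat.card F = p ^ (r * k) := by rw [Nat.card_eq_fintype_card]; exact hF
  rw [PSLAut.card_fixedUnits ι hι, Nat.card_units, GaloisField.card p k hk, hq] at h
  rw [IsCyclic.index_powMonoidHom_range, Nat.card_units, hq]
  exact gcd_arith Fact.out hk hr.ne_zero h

end CfsgLib.KnownB.PSpAut
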