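import Cfsg.Agent.Lib.KnownB.PSLAut.Basic
import Cfsg.Agent.Lib.Classical.SympSimple

/-!
The standard automorphisms of `PSp_{2m}(F)`: conjugation by similitudes and field automorphisms; their effect on
transvections.
-/

set_option autoImplicit false

namespace CfsgLib.KnownB.PSpAut

open Matrix CfsgLib.Classical

universe u

variable {m : ℕ} {F : Type u} [Field F]

local notation "Sp" => Matrix.symplecticGroup (Fin m) F
local notation "PG" => Cfsg.PSp m F
local notation "M2" => Matrix (Fin m ⊕ Fin m) (Fin m ⊕ Fin m) F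
local notation "V" => (Fin m ⊕ Fin m → F)

theorem sympForm_eq_sbil (u v : V) : Cfsg.sympForm m F u v = sbil u v := rfl

theorem mem_GSp_iff {g : GL (Fin m ⊕ Fin m) F} :
    g ∈ Cfsg.GSp m F ↔ ∃ c : Fˣ, ∀ u v, sbil ((g : M2) *ᵥ u) ((g : M2) *ᵥ v) = (c : F) * sbil u v := Iff.rfl

theorem conj_mem_sp (g : Cfsg.GSp m F) (s : Sp) :
    (g.1 : M2) * s.1 * ((g.1⁻¹ : GL (Fin m ⊕ Fin m) F) : M2) ∈ Matrix.symplecticGroup (Fin m) F := by
  obtain ⟨c, hc⟩ := mem_GSp_iff.1 g.2
  refine mem_symplecticGroup_iff_sbil.2 fun u v => ?_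
  rw [← Matrix.mulVec_mulVec, ← Matrix.mulVec_mulVec, ← Matrix.mulVec_mulVec, ← Matrix.mulVec_mulVec, hc, sbil_mulVec,
    ← hc, Matrix.mulVec_mulVec, Matrix.mulVec_mulVec, Units.mul_inv, Matrix.one_mulVec, Matrix.one_mulVec]

/-- Conjugation of `Sp` by a similitude. -/
def conjSp : Cfsg.GSp m F →* MulAut Sp where
  toFun g :=
    { toFun := fun s => ⟨(g.1 : M2) * s.1 * ((g.1⁻¹ : GL (Fin m ⊕ Fin m) F) : M2), conj_mem_sp g s⟩
      invFun := fun s => ⟨((g.1⁻¹ : GL (Fin m ⊕ Fin m) F) : M2) * s.1 * (g.1 : M2), by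
        simpa using conj_mem_sp g⁻¹ s⟩
      left_inv := fun s => Subtype.ext <| by simp [mul_assoc]
      right_inv := fun s => Subtype.ext <| by simp [mul_assoc]
      map_mul' := fun s t => Subtype.ext <| by
        show (g.1 : M2) * (s.1 * t.1) * _ = ((g.1 : M2) * s.1 * _) * ((g.1 : M2) * t.1 * _)
        simp [mul_assoc] }
  map_one' := MulEquiv.ext fun s => Subtype.ext <| by
    show ((1 : GL (Fin m ⊕ Fin m) F) : M2) * s.1 * _ = s.1
    simp
  map_mul' g h := MulEquiv.ext fun s => Subtype.ext <| by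
    show ((g.1 * h.1 : GL (Fin m ⊕ Fin m) F) : M2) * s.1 * _ =
      (g.1 : M2) * ((h.1 : M2) * s.1 * ((h.1⁻¹ : GL (Fin m ⊕ Fin m) F) : M2)) * _
    simp [mul_assoc]

theorem map_mem_sp (σ : F ≃+* F) (s : Sp) : s.1.map σ ∈ Matrix.symplecticGroup (Fin m) F := by
  have hJ : (Matrix.J (Fin m) F).map σ = Matrix.J (Fin m) F := by
    ext i j
    rcases i with i | i <;> rcases j with j | j <;> simp [Matrix.J, Matrix.one_apply, apply_ite σ]
  have h := congrArg (fun X : M2 => X.map σ) (SymplecticGroup.mem_iff.1 s.2)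
  simp only [Matrix.map_mul, hJ, Matrix.transpose_map] at h
  exact SymplecticGroup.mem_iff.2 (by simpa [Matrix.transpose_map] using h)

/-- A field automorphism applied entrywise to `Sp`. -/
def fieldSp : (F ≃+* F) →* MulAut Sp where
  toFun σ :=
    { toFun := fun s => ⟨s.1.map σ, map_mem_sp σ s⟩
      invFun := fun s => ⟨s.1.map σ.symm, map_mem_sp σ.symm s⟩
      left_inv := fun s => Subtype.ext <| by ext; simp
      right_inv := fun s => Subtype.ext <| by ext; simp
      map_mul' := fun s t => Subtype.ext <| by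
        show (s.1 * t.1).map σ = s.1.map σ * t.1.map σ
        rw [Matrix.map_mul] }
  map_one' := MulEquiv.ext fun s => Subtype.ext <| by
    show s.1.map (RingEquiv.refl F) = s.1
    ext; simp
  map_mul' σ τ := MulEquiv.ext fun s => Subtype.ext <| by
    show s.1.map (σ * τ : F ≃+* F) = (s.1.map τ).map σ
    ext; simp

/-- Conjugation of `PSp` by a similitude. -/
noncomputable def δ : Cfsg.GSp m F →* MulAut PG := PSLAut.descend.comp conjSp

/-- The standard field automorphisms of `PSp`. -/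
noncomputable def fld : (F ≃+* F) →* MulAut PG := PSLAut.descend.comp fieldSp

@[simp] theorem δ_mk (g : Cfsg.GSp m F) (s : Sp) :
    δ g (QuotientGroup.mk s) = (QuotientGroup.mk (conjSp g s) : PG) := rfl

@[simp] theorem fld_mk (σ : F ≃+* F) (s : Sp) :
    fld σ (QuotientGroup.mk s) = (QuotientGroup.mk (fieldSp σ s) : PG) := rfl

theorem isInducedBySemilinearPSp_iff (g : Cfsg.GSp m F) (σ : F ≃+* F) (β : MulAut PG) :
    Cfsg.IsInducedBySemilinearPSp g.1 σ β ↔ β = δ g * fld σ := by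
  constructor
  · intro h
    refine MulEquiv.ext fun x => ?_
    induction x using QuotientGroup.induction_on with
    | H s => exact h s (conjSp g (fieldSp σ s)) rfl
  · rintro rfl s s' hs
    exact congrArg _ (Subtype.ext hs.symm)

theorem isInnerDiagonalAutPSp_iff (β : MulAut PG) :
    Cfsg.IsInnerDiagonalAutPSp β ↔ ∃ g : Cfsg.GSp m F, β = δ g := by
  constructor
  · rintro ⟨g, hg, h⟩
    refine ⟨⟨g, hg⟩, ?_⟩
    have := (isInducedBySemilinearPSp_iff ⟨g, hg⟩ (RingEquiv.refl F) β).1 h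
    rwa [show RingEquiv.refl F = (1 : F ≃+* F) from rfl, map_one, mul_one] at this
  · rintro ⟨g, rfl⟩
    refine ⟨g.1, g.2, (isInducedBySemilinearPSp_iff g (RingEquiv.refl F) _).2 ?_⟩
    rw [show RingEquiv.refl F = (1 : F ≃+* F) from rfl, map_one, mul_one]

theorem isStdFieldAutPSp_iff (σ : F ≃+* F) (β : MulAut PG) : Cfsg.IsStdFieldAutPSp σ β ↔ β = fld σ := by
  constructor
  · intro h
    refine MulEquiv.ext fun x => ?_
    induction x using QuotientGroup.induction_on with
    | H s => exact h s (fieldSp σ s) rfl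
  · rintro rfl s s' hs
    exact congrArg _ (Subtype.ext hs.symm)

theorem inndiagPSp_eq : Cfsg.inndiagPSp m F = (δ : Cfsg.GSp m F →* MulAut PG).range := by
  refine le_antisymm ((Subgroup.closure_le _).2 ?_) ?_
  · intro β hβ
    obtain ⟨g, rfl⟩ := (isInnerDiagonalAutPSp_iff β).1 hβ
    exact ⟨g, rfl⟩
  · rintro _ ⟨g, rfl⟩
    exact Subgroup.subset_closure ((isInnerDiagonalAutPSp_iff _).2 ⟨g, rfl⟩)

theorem conjSp_stv (g : Cfsg.GSp m F) {c : Fˣ}
    (hc : ∀ u v, sbil ((g.1 : M2) *ᵥ u) ((g.1 : M2) *ᵥ v) = (c : F) * sbil u v) (a : F) (v : V) :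
    conjSp g (stv a v) = stv (a / c) ((g.1 : M2) *ᵥ v) := by
  refine sp_ext fun x => ?_
  show ((g.1 : M2) * (stv a v).1 * ((g.1⁻¹ : GL (Fin m ⊕ Fin m) F) : M2)) *ᵥ x = _
  have h := hc v (((g.1⁻¹ : GL (Fin m ⊕ Fin m) F) : M2) *ᵥ x)
  rw [Matrix.mulVec_mulVec x, Units.mul_inv, Matrix.one_mulVec] at h
  rw [← Matrix.mulVec_mulVec, ← Matrix.mulVec_mulVec, stv_mulVec, stv_mulVec, Matrix.mulVec_add, Matrix.mulVec_smul,
    Matrix.mulVec_mulVec x, Units.mul_inv, Matrix.one_mulVec, h]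
  congr 2
  field_simp

theorem fieldSp_stv (σ : F ≃+* F) (a : F) (v : V) : fieldSp σ (stv a v) = stv (σ a) (σ ∘ v) := by
  refine Subtype.ext ?_
  show (stv a v).1.map σ = (stv (σ a) (σ ∘ v)).1
  have hJ : ∀ i j, σ (Matrix.J (Fin m) F i j) = Matrix.J (Fin m) F i j := by
    intro i j
    rcases i with i | i <;> rcases j with j | j <;> simp [Matrix.J, Matrix.one_apply, apply_ite σ]
  ext i j
  simp [stv, Matrix.one_apply, apply_ite σ, vecMulVec_apply, Matrix.vecMul, dotProduct, map_sum, hJ]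

section NeZero

variable [NeZero m]

theorem mk_eq_mk_iff {s t : Sp} : (QuotientGroup.mk s : PG) = QuotientGroup.mk t ↔ t.1 = s.1 ∨ t.1 = -s.1 := by
  rw [QuotientGroup.eq, mem_center_sp_iff]
  have hmul : ∀ z : M2, (s⁻¹ * t : Sp).1 = z → t.1 = s.1 * z := fun z hz => by
    rw [← hz]
    exact (congrArg Subtype.val (mul_inv_cancel_left s t)).symm
  constructor
  · rintro (h | h)
    · exact Or.inl (by rw [hmul 1 h, mul_one])
    · exact Or.inr (by rw [hmul (-1) h, mul_neg, mul_one])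
  · rintro (h | h)
    · left
      rw [show t = s from Subtype.ext h, inv_mul_cancel]
      rfl
    · right
      show (s⁻¹).1 * t.1 = -1
      rw [h, mul_neg, show (s⁻¹).1 * s.1 = (s⁻¹ * s : Sp).1 from rfl, inv_mul_cancel]
      rfl

theorem exists_perp_pair (hm : 2 ≤ m) (v w : V) : ∃ x : V, x ≠ 0 ∧ sbil v x = 0 ∧ sbil w x = 0 := by
  let f : V →ₗ[F] F × F :=
    { toFun := fun x => (sbil v x, sbil w x)
      map_add' := fun x y => by simp [sbil_add_right]
      map_smul' := fun c x => by simp [sbil_smul_right] }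
  have h : LinearMap.ker f ≠ ⊥ := by
    intro h
    have h1 := LinearMap.finrank_le_finrank_of_injective (LinearMap.ker_eq_bot.1 h)
    rw [Module.finrank_pi, Fintype.card_sum, Fintype.card_fin, Module.finrank_prod, Module.finrank_self] at h1
    omega
  obtain ⟨x, hx, hx0⟩ := (Submodule.ne_bot_iff _).1 h
  rw [LinearMap.mem_ker] at hx
  exact ⟨x, hx0, congrArg Prod.fst hx, congrArg Prod.snd hx⟩

theorem stv_eq_of_mk (hm : 2 ≤ m) {a b : F} {v w : V}
    (h : (QuotientGroup.mk (stv a v) : PG) = QuotientGroup.mk (stv b w)) : stv a v = stv b w := by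
  rcases mk_eq_mk_iff.1 h with h | h
  · exact (Subtype.ext h).symm
  · obtain ⟨x, hx0, hxv, hxw⟩ := exists_perp_pair hm v w
    have hx : (stv b w).1 *ᵥ x = -((stv a v).1 *ᵥ x) := by rw [h, Matrix.neg_mulVec]
    simp only [stv_mulVec, hxv, hxw, mul_zero, zero_smul, add_zero] at hx
    obtain ⟨i, hi⟩ := Function.ne_iff.1 hx0
    have h2 : (2 : F) = 0 := mul_right_cancel₀ hi (by
      have := congrFun hx i
      rw [Pi.neg_apply] at this
      rw [zero_mul]
      linear_combination this)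
    refine Subtype.ext ?_
    rw [h]
    ext i j
    rw [Matrix.neg_apply, eq_neg_iff_add_eq_zero]
    linear_combination (stv a v).1 i j * h2

theorem par_of_stv_eq {a b : F} {v w : V} (ha : a ≠ 0) (hv : v ≠ 0) (h : stv a v = stv b w) :
    ∃ c : F, c ≠ 0 ∧ v = c • w := by
  obtain ⟨z, hz⟩ := exists_sbil_eq_one hv
  have h1 := congrArg (fun k : Sp => k.1 *ᵥ z) h
  simp only [stv_mulVec, hz, mul_one, add_right_inj] at h1
  refine ⟨a⁻¹ * (b * sbil w z), fun h0 => hv ?_, ?_⟩
  · have h2 := congrArg (fun x => a⁻¹ • x) h1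
    simp only [smul_smul, inv_mul_cancel₀ ha, one_smul, h0, zero_smul] at h2
    exact h2
  · rw [mul_smul, ← h1, smul_smul, inv_mul_cancel₀ ha, one_smul]

theorem commute_mk_stv_iff (hm : 2 ≤ m) {a b : F} {v w : V} (ha : a ≠ 0) (hb : b ≠ 0) (hv : v ≠ 0) (hw : w ≠ 0) :
    Commute (QuotientGroup.mk (stv a v) : PG) (QuotientGroup.mk (stv b w)) ↔ sbil v w = 0 := by
  constructor
  · intro h
    have h0 : (QuotientGroup.mk (stv a v * stv b w) : PG) = QuotientGroup.mk (stv b w * stv a v) := by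
      rw [QuotientGroup.mk_mul, QuotientGroup.mk_mul]; exact h.eq
    have h' : (QuotientGroup.mk (stv b ((stv a v).1 *ᵥ w)) : PG) = QuotientGroup.mk (stv b w) := by
      rw [← stv_conj, QuotientGroup.mk_mul, ← QuotientGroup.mk_mul, QuotientGroup.mk_mul, h0, QuotientGroup.mk_mul,
        QuotientGroup.mk_inv, mul_inv_cancel_right]
    obtain ⟨c, -, hc⟩ := par_of_stv_eq hb (sp_mulVec_ne_zero _ hw) (stv_eq_of_mk hm h')
    by_contra hne
    have hc' := congrArg (sbil v) hc
    rw [stv_mulVec, sbil_add_right, sbil_smul_right, sbil_self, mul_zero, add_zero, sbil_smul_right] at hc'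
    have hc1 : c = 1 := mul_right_cancel₀ hne (by rw [one_mul]; exact hc'.symm)
    rw [hc1, one_smul, stv_mulVec, add_eq_left, smul_eq_zero] at hc
    exact hc.elim (mul_ne_zero ha hne) hv
  · intro h
    have h' : stv a v * stv b w * (stv a v)⁻¹ = stv b w := by
      rw [stv_conj, stv_mulVec, h, mul_zero, zero_smul, add_zero]
    exact (show Commute (stv a v) (stv b w) from mul_inv_eq_iff_eq_mul.1 h').map (QuotientGroup.mk' _)

end NeZero

end CfsgLib.KnownB.PSpAut
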