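import Cfsg.Agent.Lib.Classical.SympSimple

/-!
A small generating set of root groups of `Sp_{2m}(F)`: those at the standard basis vectors and at `e₀ + e_j`.
-/

set_option autoImplicit false

namespace CfsgLib.KnownB.PSpAut

open Matrix CfsgLib.Classical

universe u

variable {m : ℕ} {F : Type u} [Field F]

local notation "Sp" => Matrix.symplecticGroup (Fin m) F
local notation "V" => (Fin m ⊕ Fin m → F)

/-- A standard basis vector. -/
def bas (i : Fin m ⊕ Fin m) : V := Pi.single i 1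

theorem sbil_bas_inl (v : V) (j : Fin m) : sbil (bas (Sum.inl j)) v = -v (Sum.inr j) := by
  rw [sbil_swap, bas, sbil_single_inl, mul_one]

theorem sbil_bas_inr (v : V) (j : Fin m) : sbil (bas (Sum.inr j)) v = v (Sum.inl j) := by
  rw [sbil_swap, bas, sbil_single_inr, mul_one, neg_neg]

theorem bas_ne_zero (i : Fin m ⊕ Fin m) : (bas i : V) ≠ 0 := fun h => by
  simpa [bas] using congrFun h i

theorem sp_eq_top_of_gens (H : Subgroup Sp) (i₀ : Fin m) (hE : ∀ i (a : F), stv a (bas i) ∈ H)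
    (hU : ∀ j, j ≠ i₀ → ∀ a : F, stv a (bas (Sum.inl i₀) + bas (Sum.inl j)) ∈ H) :
    H = ⊤ := by
  classical
  have move : ∀ {w : V} (g : Sp), g ∈ H → (∀ a, stv a w ∈ H) → ∀ a, stv a (g.1 *ᵥ w) ∈ H := fun g hg hw a => by
    rw [← stv_conj]
    exact H.mul_mem (H.mul_mem hg (hw a)) (H.inv_mem hg)
  -- the element exchanging `e_j` and `f_j`
  set W : Fin m → Sp := fun j => stv 1 (bas (Sum.inl j)) * stv 1 (bas (Sum.inr j)) * stv 1 (bas (Sum.inl j))
  have hW : ∀ j, W j ∈ H := fun j => H.mul_mem (H.mul_mem (hE _ _) (hE _ _)) (hE _ _)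
  have hWe : ∀ j, (W j).1 *ᵥ bas (Sum.inl j) = bas (Sum.inr j) := by
    intro j
    simp only [W, sp_mul_mulVec, stv_mulVec, sbil_bas_inl, sbil_bas_inr, one_mul]
    funext k
    rcases k with k | k <;> simp [bas, Pi.single_apply] <;> split_ifs <;> ring
  have hWo : ∀ i j, i ≠ j → (W j).1 *ᵥ bas (Sum.inl i) = bas (Sum.inl i) := by
    intro i j h
    simp only [W, sp_mul_mulVec, stv_mulVec, sbil_bas_inl, sbil_bas_inr]
    funext k
    rcases k with k | k <;> simp [bas, h.symm]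
  have hU₁ : ∀ j, j ≠ i₀ → ∀ a : F, stv a (bas (Sum.inl i₀) + bas (Sum.inr j)) ∈ H := by
    intro j hj
    have := move (W j) (hW j) (hU j hj)
    rwa [Matrix.mulVec_add, hWe, hWo _ _ hj.symm] at this
  have hU₂ : ∀ j, j ≠ i₀ → ∀ a : F, stv a (bas (Sum.inr i₀) + bas (Sum.inl j)) ∈ H := by
    intro j hj
    have := move (W i₀) (hW i₀) (hU j hj)
    rwa [Matrix.mulVec_add, hWe, hWo _ _ hj] at this
  -- clearing one `f`-coordinate
  have stepA : ∀ (v : V) j, ∃ h ∈ H, (h.1 *ᵥ v) (Sum.inr j) = 0 ∧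
      ∀ k, k ≠ Sum.inl j → k ≠ Sum.inr j → (h.1 *ᵥ v) k = v k := by
    intro v j
    by_cases hy : v (Sum.inr j) = 0
    · exact ⟨1, H.one_mem, by simp [hy], fun k _ _ => by simp⟩
    set x := v (Sum.inl j)
    set y := v (Sum.inr j)
    refine ⟨stv (-1) (bas (Sum.inr j)) * stv ((x - y) / y) (bas (Sum.inl j)), H.mul_mem (hE _ _) (hE _ _), ?_, ?_⟩
    · simp only [sp_mul_mulVec, stv_mulVec, sbil_bas_inl, sbil_bas_inr]
      have hy' : v (Sum.inr j) ≠ 0 := hy
      simp [bas, Pi.single_apply, x, y]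
      field_simp
      ring
    · intro k hk hk'
      simp only [sp_mul_mulVec, stv_mulVec, sbil_bas_inl, sbil_bas_inr]
      simp [bas, Pi.single_apply, hk, hk']
  have stepA' : ∀ (s : Finset (Fin m)) (v : V), ∃ h ∈ H, ∀ j ∈ s, (h.1 *ᵥ v) (Sum.inr j) = 0 := by
    intro s
    induction s using Finset.induction_on with
    | empty => exact fun v => ⟨1, H.one_mem, fun j hj => absurd hj (Finset.notMem_empty j)⟩
    | insert i s hi ih =>
      intro v
      obtain ⟨h, hh, hs⟩ := ih v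
      obtain ⟨g, hg, hgi, hgo⟩ := stepA (h.1 *ᵥ v) i
      refine ⟨g * h, H.mul_mem hg hh, fun j hj => ?_⟩
      rw [sp_mul_mulVec]
      rcases Finset.mem_insert.1 hj with rfl | hj
      · exact hgi
      · rw [hgo (Sum.inr j) (by simp) (fun e => hi (Sum.inr_injective e ▸ hj))]
        exact hs j hj
  -- clearing one `e`-coordinate
  have stepC : ∀ (v : V) j, j ≠ i₀ → (∀ i, v (Sum.inr i) = 0) → v (Sum.inl i₀) ≠ 0 →
      ∃ h ∈ H, h.1 *ᵥ v = v - v (Sum.inl j) • bas (Sum.inl j) := by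
    intro v j hj hy hx
    refine ⟨stv (v (Sum.inl j) / v (Sum.inl i₀)) (bas (Sum.inr i₀)) *
      stv (-(v (Sum.inl j) / v (Sum.inl i₀))) (bas (Sum.inr i₀) + bas (Sum.inl j)),
      H.mul_mem (hE _ _) (hU₂ j hj _), ?_⟩
    simp only [sp_mul_mulVec, stv_mulVec, sbil_add_left, sbil_bas_inl, sbil_bas_inr, hy, neg_zero, add_zero]
    funext k
    rcases k with k | k <;> simp [bas, Pi.single_apply, hj.symm] <;> split_ifs <;> field_simp <;> ring
  have stepC' : ∀ (s : Finset (Fin m)) (v : V), i₀ ∉ s → (∀ i, v (Sum.inr i) = 0) → v (Sum.inl i₀) ≠ 0 →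
      ∃ h ∈ H, (∀ i, (h.1 *ᵥ v) (Sum.inr i) = 0) ∧ (∀ i, i ∉ s → (h.1 *ᵥ v) (Sum.inl i) = v (Sum.inl i)) ∧
        ∀ i ∈ s, (h.1 *ᵥ v) (Sum.inl i) = 0 := by
    intro s
    induction s using Finset.induction_on with
    | empty => exact fun v _ hy _ => ⟨1, H.one_mem, by simpa using hy, by simp, by simp⟩
    | insert j s hj ih =>
      intro v hi hy hx
      rw [Finset.mem_insert, not_or] at hi
      obtain ⟨h, hh, h1, h2, h3⟩ := ih v hi.2 hy hx
      obtain ⟨g, hg, hgv⟩ := stepC (h.1 *ᵥ v) j (Ne.symm hi.1) h1 (by rw [h2 _ hi.2]; exact hx)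
      refine ⟨g * h, H.mul_mem hg hh, ?_, ?_, ?_⟩ <;> rw [sp_mul_mulVec, hgv]
      · intro i; simp [bas, h1]
      · intro i his
        rw [Finset.mem_insert, not_or] at his
        simp [bas, h2 i his.2, Ne.symm his.1]
      · intro i his
        rcases Finset.mem_insert.1 his with rfl | his
        · simp [bas]
        · simp [bas, h3 i his, show i ≠ j from fun e => hj (e ▸ his)]
  refine sp_eq_top_of_stv_mem H fun a v => ?_
  by_cases hv : v = 0
  · subst hv
    rw [show stv a (0 : V) = 1 from sp_ext fun x => by simp]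
    exact H.one_mem
  obtain ⟨h₁, hh₁, hy₁⟩ := stepA' Finset.univ v
  obtain ⟨h₂, hh₂, hy₂, hx₂⟩ : ∃ h ∈ H, (∀ i, (h.1 *ᵥ v) (Sum.inr i) = 0) ∧ (h.1 *ᵥ v) (Sum.inl i₀) ≠ 0 := by
    set w := h₁.1 *ᵥ v with hw
    have hy : ∀ i, w (Sum.inr i) = 0 := fun i => hy₁ i (Finset.mem_univ i)
    by_cases hx : w (Sum.inl i₀) = 0
    · obtain ⟨j, hj⟩ : ∃ j, w (Sum.inl j) ≠ 0 := by
        by_contra hall
        push Not at hall
        exact sp_mulVec_ne_zero h₁ hv (funext fun k => k.casesOn hall hy)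
      have hji : j ≠ i₀ := fun e => hj (e ▸ hx)
      set g := stv (-1 : F) (bas (Sum.inr j)) * stv (1 : F) (bas (Sum.inl i₀) + bas (Sum.inr j))
      have hg : g.1 *ᵥ w = w + w (Sum.inl j) • bas (Sum.inl i₀) := by
        simp only [g, sp_mul_mulVec, stv_mulVec, sbil_add_left, sbil_bas_inl, sbil_bas_inr, hy]
        funext k
        rcases k with k | k <;> simp [bas, Pi.single_apply, hji] <;> split_ifs <;> ring
      refine ⟨g * h₁, H.mul_mem (H.mul_mem (hE _ _) (hU₁ j hji _)) hh₁, ?_, ?_⟩ <;> rw [sp_mul_mulVec, ← hw, hg]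
      · intro i; simp [bas, hy i]
      · simpa [bas, hx] using hj
    · exact ⟨h₁, hh₁, hy, hx⟩
  obtain ⟨h₃, hh₃, hy₃, hx₃, hz₃⟩ := stepC' (Finset.univ.erase i₀) (h₂.1 *ᵥ v) (by simp) hy₂ hx₂
  have hk : (h₃ * h₂).1 *ᵥ v = (h₂.1 *ᵥ v) (Sum.inl i₀) • bas (Sum.inl i₀) := by
    rw [sp_mul_mulVec]
    funext k
    rcases k with k | k
    · by_cases hki : k = i₀
      · subst hki; simpa [bas] using hx₃ k (by simp)
      · simpa [bas, hki] using hz₃ k (by simp [hki])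
    · simpa [bas] using hy₃ k
  have hmem := move (h₃ * h₂)⁻¹ (H.inv_mem (H.mul_mem hh₃ hh₂))
    (w := (h₂.1 *ᵥ v) (Sum.inl i₀) • bas (Sum.inl i₀)) (fun b => by rw [stv_smul]; exact hE _ _) a
  rwa [← hk, sp_inv_mulVec] at hmem

end CfsgLib.KnownB.PSpAut
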