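import Cfsg.Agent.Lib.KnownB.PSpAut.Image
import Cfsg.Agent.Lib.KnownB.PSpAut.Gens

/-!
Every automorphism of `PSp_{2m}(F)` (`(2m, char F) ≠ (4, 2)`) is induced by a semilinear similitude.
-/

set_option autoImplicit false

namespace CfsgLib.KnownB.PSpAut

open Matrix CfsgLib.Classical

universe u

variable {m : ℕ} {F : Type u} [Field F]

local notation "Sp" => Matrix.symplecticGroup (Fin m) F
local notation "PG" => Cfsg.PSp m F
local notation "M2" => Matrix (Fin m ⊕ Fin m) (Fin m ⊕ Fin m) F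
local notation "V" => (Fin m ⊕ Fin m → F)

/-- The class of a transvection. -/
def T (a : F) (v : V) : PG := QuotientGroup.mk (stv a v)

/-- `β` sends the transvection group at `v` to the one at `w` through `φ`. -/
def Sends (β : MulAut PG) (v w : V) (φ : F → F) : Prop := ∀ a, β (T a v) = T (φ a) w

/-- `α` maps each transvection group into a transvection group. -/
def TPres (α : MulAut PG) : Prop := ∀ e : V, e ≠ 0 → ∃ e' : V, e' ≠ 0 ∧ ∀ a : F, ∃ b : F, α (T a e) = T b e'

theorem TPres.mul {α β : MulAut PG} (hα : TPres α) (hβ : TPres β) : TPres (α * β) := fun e he => by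
  obtain ⟨e', he', h⟩ := hβ e he
  obtain ⟨e'', he'', h'⟩ := hα e' he'
  refine ⟨e'', he'', fun a => ?_⟩
  obtain ⟨b, hb⟩ := h a
  obtain ⟨c, hc⟩ := h' b
  exact ⟨c, by rw [MulAut.mul_apply, hb, hc]⟩

theorem tpres_δ (g : Cfsg.GSp m F) : TPres (δ g) := fun e he => by
  obtain ⟨c, hc⟩ := mem_GSp_iff.1 g.2
  refine ⟨(g.1 : M2) *ᵥ e, fun h => he ?_, fun a => ⟨a / c, ?_⟩⟩
  · have := congrArg (((g.1⁻¹ : GL (Fin m ⊕ Fin m) F) : M2) *ᵥ ·) h
    simpa [Matrix.mulVec_mulVec] using this
  · rw [T, δ_mk, conjSp_stv g hc]; rfl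

theorem tpres_fld (σ : F ≃+* F) : TPres (fld σ : MulAut PG) := fun e he =>
  ⟨σ ∘ e, fun h => he (funext fun i => σ.injective ((congrFun h i).trans (map_zero σ).symm)),
    fun a => ⟨σ a, by rw [T, fld_mk, fieldSp_stv]; rfl⟩⟩

theorem T_conj (a b : F) (v w : V) : T a v * T b w * (T a v)⁻¹ = T b ((stv a v).1 *ᵥ w) := by
  rw [T, T, T, ← stv_conj]; rfl

theorem T_smul (a c : F) (v : V) : T a (c • v) = T (a * c ^ 2) v := by rw [T, T, stv_smul]

theorem T_mul (a b : F) (v : V) : T (a + b) v = T a v * T b v := by rw [T, ← stv_mul]; rfl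

section NeZero

variable [NeZero m]

theorem T_inj (hm : 2 ≤ m) {a b : F} {v : V} (hv : v ≠ 0) (h : T a v = T b v) : a = b := by
  obtain ⟨z, hz⟩ := exists_sbil_eq_one hv
  have := congrArg (fun k : Sp => k.1 *ᵥ z) (stv_eq_of_mk hm h)
  simp only [stv_mulVec, hz, mul_one, add_right_inj] at this
  exact smul_left_injective F hv this

variable [Finite F]

theorem exists_sends (hm : 2 ≤ m) (α : MulAut PG) (hP : TPres α) {e : V} (he : e ≠ 0) :
    ∃ (e' : V) (φ : F ≃+ F), e' ≠ 0 ∧ Sends α e e' φ := by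
  obtain ⟨e', he', h⟩ := hP e he
  choose φ hφ using h
  have hadd : ∀ a b, φ (a + b) = φ a + φ b := fun a b => T_inj hm he' <| by
    rw [T_mul, ← hφ, ← hφ, ← hφ, ← map_mul, ← T_mul]
  have hinj : Function.Injective φ := fun a b h => T_inj hm he <| α.injective <| by
    rw [hφ, hφ, h]
  exact ⟨e', AddEquiv.ofBijective (AddMonoidHom.mk' φ hadd) ⟨hinj, Finite.surjective_of_injective hinj⟩, he', hφ⟩

end NeZero

theorem Sends.conj {β : MulAut PG} {v w : V} {φ : F → F} (h : Sends β v w φ) {a a' : F} {u u' : V}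
    (hu : β (T a u) = T a' u') : Sends β ((stv a u).1 *ᵥ v) ((stv a' u').1 *ᵥ w) φ := fun b => by
  rw [← T_conj, map_mul, map_mul, map_inv, hu, h b, T_conj]

theorem Sends.perp [NeZero m] (hm : 2 ≤ m) {β : MulAut PG} {v w v' w' : V} {φ φ' : F ≃+ F}
    (h : Sends β v w φ) (h' : Sends β v' w' φ') (hv : v ≠ 0) (hw : w ≠ 0) (hv' : v' ≠ 0) (hw' : w' ≠ 0) :
    sbil v v' = 0 ↔ sbil w w' = 0 := by
  have h1 : φ 1 ≠ 0 := by simp
  have h1' : φ' 1 ≠ 0 := by simp
  rw [← commute_mk_stv_iff hm one_ne_zero one_ne_zero hv hv', ← commute_mk_stv_iff hm h1 h1' hw hw']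
  show Commute (T 1 v) (T 1 v') ↔ Commute (T (φ 1) w) (T (φ' 1) w')
  rw [← h 1, ← h' 1]
  exact ⟨fun hc => hc.map β, fun hc => by simpa using hc.map β.symm⟩

/-- On a hyperbolic pair an automorphism is semilinear. -/
theorem pair_semilinear [NeZero m] [Finite F] (hm : 2 ≤ m) {β : MulAut PG} {e f : V} (hef : sbil e f = 1)
    {φ ψ : F ≃+ F} (he : Sends β e e φ) (hf : Sends β f f ψ) :
    ∃ (k : F) (σ : F ≃+* F), k ≠ 0 ∧ ∀ a, φ a = k * σ a ∧ ψ a = k⁻¹ * σ a := by
  have hfe : sbil f e = -1 := by rw [sbil_swap, hef]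
  have he0 : e ≠ 0 := fun h => by simp [h] at hef
  have key : ∀ a : F, a ≠ 0 → ∀ b, φ (b * a ^ 2) = ψ b * φ a ^ 2 := by
    intro a ha
    have hA : φ a ≠ 0 := by simpa using ha
    have h1 : ∀ b, T (ψ b) (f + φ a • e) = T (φ (b * a ^ 2)) (e + ψ a⁻¹ • f) := by
      intro b
      have hL := (Sends.conj hf (he a)) b
      have hR := (Sends.conj he (hf (-a⁻¹))) (b * a ^ 2)
      simp only [stv_mulVec, hef, mul_one] at hL
      simp only [stv_mulVec, hfe, mul_neg, mul_one, map_neg, neg_neg] at hR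
      rw [← hL, ← hR]
      congr 1
      rw [← T_smul]
      congr 1
      rw [smul_add, smul_smul, mul_inv_cancel₀ ha, one_smul, add_comm]
    have hne : f + φ a • e ≠ 0 := fun h => by
      have := congrArg (sbil e) h
      simp [sbil_add_right, sbil_smul_right, hef] at this
    have hψ1 : ψ 1 ≠ 0 := by simp
    obtain ⟨c, -, hc⟩ := par_of_stv_eq hψ1 hne (stv_eq_of_mk hm (h1 1))
    have hc1 := congrArg (sbil e) hc
    have hc2 := congrArg (sbil f) hc
    simp only [sbil_add_right, sbil_smul_right, sbil_self, hef, hfe, mul_one, mul_zero, add_zero, zero_add,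
      mul_neg, neg_inj] at hc1 hc2
    intro b
    have h2 := h1 b
    rw [hc, hc2.symm, T_smul] at h2
    refine (T_inj hm (fun h => ?_) h2).symm
    rw [h, smul_zero] at hc
    exact hne hc
  set k := φ 1 with hk
  have hk0 : k ≠ 0 := by simp [hk]
  have hψ : ∀ b, ψ b = φ b / k ^ 2 := fun b => by
    have := key 1 one_ne_zero b
    rw [one_pow, mul_one] at this
    rw [this, mul_div_cancel_right₀ _ (pow_ne_zero 2 hk0)]
  have key' : ∀ a b, φ (b * a ^ 2) / k = φ b / k * (φ a / k) ^ 2 := by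
    intro a b
    rcases eq_or_ne a 0 with rfl | ha
    · simp
    rw [key a ha b, hψ]
    field_simp
  have hmul : ∀ a b, φ (a * b) / k = φ a / k * (φ b / k) := by
    intro a b
    by_cases h2 : (2 : F) = 0
    · have hinj : Function.Injective fun x : F => x ^ 2 := fun x y h => by
        have : (x - y) ^ 2 = 0 := by linear_combination h + (y ^ 2 - x * y) * h2
        exact sub_eq_zero.1 (by simpa using this)
      obtain ⟨c, hc⟩ := Finite.surjective_of_injective hinj b
      have h1 := key' c 1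
      rw [one_mul, ← hk, div_self hk0, one_mul] at h1
      simp only at hc
      rw [← hc, key', h1]
    · have e1 := key' (b + 1) a
      have e2 := key' b a
      have e3 : φ (a * b ^ 2 + (a * b + a * b) + a) / k = φ a / k * ((φ b + φ 1) / k) ^ 2 := by
        rw [← map_add, ← e1]; ring_nf
      simp only [map_add, ← hk, add_div, div_self hk0] at e3
      refine mul_left_cancel₀ h2 ?_
      linear_combination e3 - e2
  let θ : F →+* F :=
    { toFun := fun a => φ a / k
      map_one' := by rw [← hk, div_self hk0]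
      map_mul' := hmul
      map_zero' := by simp
      map_add' := fun a b => by rw [map_add, add_div] }
  refine ⟨k, RingEquiv.ofBijective θ ⟨θ.injective, Finite.surjective_of_injective θ.injective⟩, hk0, fun a => ?_⟩
  constructor
  · show φ a = k * (φ a / k)
    field_simp
  · show ψ a = k⁻¹ * (φ a / k)
    rw [hψ]
    field_simp

/-- The similitude scaling `e_j` by `d j` and `f_j` by `c / d j`. -/
def diagGSp (d : Fin m → Fˣ) (c : Fˣ) : Cfsg.GSp m F :=
  ⟨⟨Matrix.diagonal (Sum.elim (fun j => (d j : F)) fun j => (c : F) / d j),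
      Matrix.diagonal (Sum.elim (fun j => (d j : F)⁻¹) fun j => (d j : F) / c),
      by
        rw [Matrix.diagonal_mul_diagonal, ← Matrix.diagonal_one]
        congr 1
        funext k
        rcases k with k | k <;> simp [field],
      by
        rw [Matrix.diagonal_mul_diagonal, ← Matrix.diagonal_one]
        congr 1
        funext k
        rcases k with k | k <;> simp [field]⟩,
    c, fun u v => by
      show sbil _ _ = (c : F) * sbil u v
      simp only [sbil_apply, Matrix.mulVec_diagonal, Sum.elim_inl, Sum.elim_inr, Finset.mul_sum]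
      exact Finset.sum_congr rfl fun j _ => by field_simp⟩

theorem δ_diagGSp_T (d : Fin m → Fˣ) (c : Fˣ) (a : F) (v : V) :
    δ (diagGSp d c) (T a v) =
      T (a / c) (fun k => Sum.elim (fun j => (d j : F)) (fun j => (c : F) / d j) k * v k) := by
  have h : ∀ u w : V, sbil ((((diagGSp d c).1 : GL (Fin m ⊕ Fin m) F) : M2) *ᵥ u)
      ((((diagGSp d c).1 : GL (Fin m ⊕ Fin m) F) : M2) *ᵥ w) = (c : F) * sbil u w := fun u w => by
    show sbil _ _ = (c : F) * sbil u w
    simp only [diagGSp, sbil_apply, Matrix.mulVec_diagonal, Sum.elim_inl, Sum.elim_inr, Finset.mul_sum]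
    exact Finset.sum_congr rfl fun j _ => by field_simp
  rw [T, δ_mk, conjSp_stv _ h]
  exact congrArg (fun w => T (a / c) w) (funext fun k => Matrix.mulVec_diagonal _ _ k)

theorem fld_T (σ : F ≃+* F) (a : F) (v : V) : fld σ (T a v) = T (σ a) (σ ∘ v) := by
  rw [T, fld_mk, fieldSp_stv]; rfl

theorem δ_diagGSp_bas (d : Fin m → Fˣ) (c : Fˣ) (a : F) (k : Fin m ⊕ Fin m) :
    δ (diagGSp d c) (T a (bas k)) =
      T (a / c * Sum.elim (fun j => (d j : F)) (fun j => (c : F) / d j) k ^ 2) (bas k) := by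
  rw [δ_diagGSp_T, ← T_smul]
  congr 1
  funext i
  by_cases h : i = k <;> simp [bas, h]

theorem comp_bas (σ : F ≃+* F) (k : Fin m ⊕ Fin m) : σ ∘ (bas k : V) = bas k := by
  funext i
  by_cases h : i = k <;> simp [bas, h]

theorem sbil_bas_pair (j : Fin m) : sbil (bas (Sum.inr j) : V) (bas (Sum.inl j)) = 1 := by
  rw [sbil_bas_inr]; simp [bas]

section Main

variable [NeZero m] [Finite F]

/-- After an inner automorphism the coordinate transvection groups are fixed. -/
theorem exists_frame (hm : 2 ≤ m) (α : MulAut PG) (hP : TPres α) :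
    ∃ s : Sp, ∀ k : Fin m ⊕ Fin m, ∃ φ : F ≃+ F,
      Sends (MulAut.conj (QuotientGroup.mk s : PG) * α) (bas k) (bas k) φ := by
  choose e φ he hs using fun k : Fin m ⊕ Fin m => exists_sends hm α hP (bas_ne_zero (F := F) k)
  have hperp : ∀ i j, sbil (bas i : V) (bas j) = 0 ↔ sbil (e i) (e j) = 0 := fun i j =>
    Sends.perp hm (hs i) (hs j) (bas_ne_zero i) (he i) (bas_ne_zero j) (he j)
  have hpair : ∀ j : Fin m, sbil (e (Sum.inr j)) (e (Sum.inl j)) ≠ 0 := fun j h =>
    one_ne_zero (α := F) (by rw [← sbil_bas_pair (F := F) j]; exact (hperp _ _).2 h)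
  let d : Fin m ⊕ Fin m → F := Sum.elim (fun _ => 1) fun j => (sbil (e (Sum.inr j)) (e (Sum.inl j)))⁻¹
  have hd : ∀ k, d k ≠ 0 := fun k => by rcases k with k | k <;> simp [d, hpair]
  let M : M2 := Matrix.of fun r k => d k * e k r
  have hcol : ∀ k, M *ᵥ bas k = d k • e k := fun k => by
    funext r
    simp [M, bas]
  have hform : ∀ i j, sbil (M *ᵥ bas i) (M *ᵥ bas j) = sbil (bas i : V) (bas j) := by
    intro i j
    rw [hcol, hcol, sbil_smul_left, sbil_smul_right]
    by_cases h0 : sbil (bas i : V) (bas j) = 0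
    · rw [h0, (hperp i j).1 h0, mul_zero, mul_zero]
    rcases i with i | i <;> rcases j with j | j
    · exact absurd (by rw [sbil_bas_inl]; simp [bas]) h0
    · have hij : i = j := by
        by_contra hne
        exact h0 (by rw [sbil_bas_inl]; simp [bas, hne])
      subst hij
      rw [sbil_swap (bas (Sum.inr i)) (bas (Sum.inl i)), sbil_bas_pair,
        sbil_swap (e (Sum.inr i)) (e (Sum.inl i))]
      simp [d, hpair i]
    · have hij : i = j := by
        by_contra hne
        exact h0 (by rw [sbil_bas_inr]; simp [bas, hne])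
      subst hij
      rw [sbil_bas_pair]
      simp [d, hpair i]
    · exact absurd (by rw [sbil_bas_inr]; simp [bas]) h0
  have hM : M ∈ Matrix.symplecticGroup (Fin m) F := by
    rw [SymplecticGroup.mem_iff']
    ext i j
    have := hform i j
    rw [sbil_eq_toBilin, sbil] at this
    simpa [bas] using this
  refine ⟨(⟨M, hM⟩ : Sp)⁻¹, fun k => ?_⟩
  have hk : ((⟨M, hM⟩ : Sp)⁻¹).1 *ᵥ (e k) = (d k)⁻¹ • bas k := by
    have := congrArg (fun v => (d k)⁻¹ • ((⟨M, hM⟩ : Sp)⁻¹).1 *ᵥ v) (hcol k)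
    rw [show ((⟨M, hM⟩ : Sp)⁻¹).1 *ᵥ (M *ᵥ bas k) = bas k from sp_inv_mulVec ⟨M, hM⟩ _, Matrix.mulVec_smul,
      smul_smul, inv_mul_cancel₀ (hd k), one_smul] at this
    exact this.symm
  refine ⟨(φ k).trans (AddEquiv.ofBijective (AddMonoidHom.mulRight ((d k)⁻¹ ^ 2))
    ⟨mul_left_injective₀ (pow_ne_zero 2 (inv_ne_zero (hd k))),
      Finite.surjective_of_injective (mul_left_injective₀ (pow_ne_zero 2 (inv_ne_zero (hd k))))⟩), fun a => ?_⟩
  show (QuotientGroup.mk _ : PG) * α (T a (bas k)) * (QuotientGroup.mk _ : PG)⁻¹ = T (φ k a * (d k)⁻¹ ^ 2) (bas k)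
  rw [hs k a, ← T_smul, ← hk, T, T, ← stv_conj]
  rfl

omit [NeZero m] [Finite F] in
theorem δ_mem_gamma (g : Cfsg.GSp m F) : δ g ∈ Cfsg.gammaPSp m F :=
  Subgroup.subset_closure ⟨g.1, 1, g.2, (isInducedBySemilinearPSp_iff g 1 _).2 (by rw [map_one, mul_one])⟩

omit [NeZero m] [Finite F] in
theorem fld_mem_gamma (σ : F ≃+* F) : (fld σ : MulAut PG) ∈ Cfsg.gammaPSp m F :=
  Subgroup.subset_closure ⟨(1 : Cfsg.GSp m F).1, σ, (1 : Cfsg.GSp m F).2,
    (isInducedBySemilinearPSp_iff 1 σ _).2 (by rw [map_one, one_mul])⟩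

/-- An element of `Sp` as a similitude. -/
def spGSp (s : Sp) : Cfsg.GSp m F :=
  ⟨⟨s.1, (s⁻¹).1, congrArg Subtype.val (mul_inv_cancel s), congrArg Subtype.val (inv_mul_cancel s)⟩, 1,
    fun u v => by rw [Units.val_one, one_mul]; exact sbil_mulVec s u v⟩

omit [NeZero m] [Finite F] in
theorem δ_spGSp (s : Sp) : δ (spGSp s) = MulAut.conj (QuotientGroup.mk s : PG) := by
  refine MulEquiv.ext fun x => ?_
  induction x using QuotientGroup.induction_on with
  | H t => rw [δ_mk]; exact congrArg QuotientGroup.mk (Subtype.ext rfl)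

omit [NeZero m] [Finite F] in
theorem conj_mem_gamma (x : PG) : MulAut.conj x ∈ Cfsg.gammaPSp m F := by
  induction x using QuotientGroup.induction_on with
  | H s => rw [← δ_spGSp]; exact δ_mem_gamma _

/-- Linking the pair `i` with the pair `j`. -/
theorem link (hm : 2 ≤ m) (β : MulAut PG) (hP : TPres β) {i j : Fin m} (hij : i ≠ j)
    {Φ : Fin m ⊕ Fin m → F ≃+ F} (hΦ : ∀ k, Sends β (bas k) (bas k) (Φ k))
    (hl : ∀ a, Φ (Sum.inl i) a = a) (hr : ∀ a, Φ (Sum.inr i) a = a) :
    ∃ h : F, h ≠ 0 ∧ (∀ a, Φ (Sum.inl j) a = a * h ^ 2) ∧ (∀ a, Φ (Sum.inr j) a = a / h ^ 2) ∧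
      ∀ a, β (T a (bas (Sum.inl i) + bas (Sum.inl j))) = T a (bas (Sum.inl i) + h • bas (Sum.inl j)) := by
  set ei : V := bas (Sum.inl i)
  set fi : V := bas (Sum.inr i)
  set ej : V := bas (Sum.inl j)
  set fj : V := bas (Sum.inr j)
  have hu : ei + ej ≠ 0 := fun h => by simpa [ei, ej, bas, hij] using congrFun h (Sum.inl i)
  obtain ⟨w, φ, hw, hs⟩ := exists_sends hm β hP hu
  have hperp : ∀ k, sbil (ei + ej) (bas k) = 0 ↔ sbil w (bas k) = 0 := fun k =>
    Sends.perp hm hs (hΦ k) hu hw (bas_ne_zero k) (bas_ne_zero k)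
  have hw0 : ∀ k, k ≠ Sum.inl i → k ≠ Sum.inl j → w k = 0 := by
    rintro (k | k) h1 h2
    · have := (hperp (Sum.inr k)).1 (by
        simp only [ei, ej, sbil_add_left, sbil_bas_inl]
        have h1' : k ≠ i := fun e => h1 (by rw [e])
        have h2' : k ≠ j := fun e => h2 (by rw [e])
        simp [bas, h1'.symm, h2'.symm])
      rwa [sbil_swap, sbil_bas_inr, neg_eq_zero] at this
    · have := (hperp (Sum.inl k)).1 (by simp only [ei, ej, sbil_add_left, sbil_bas_inl]; simp [bas])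
      rwa [sbil_swap, sbil_bas_inl, neg_neg] at this
  have hwi : w (Sum.inl i) ≠ 0 := fun h => by
    have := (hperp (Sum.inr i)).2 (by rw [sbil_swap, sbil_bas_inr, h, neg_zero])
    simp only [ei, ej, sbil_add_left, sbil_bas_inl] at this
    simp [bas, hij] at this
  have hwj : w (Sum.inl j) ≠ 0 := fun h => by
    have := (hperp (Sum.inr j)).2 (by rw [sbil_swap, sbil_bas_inr, h, neg_zero])
    simp only [ei, ej, sbil_add_left, sbil_bas_inl] at this
    simp [bas, hij.symm] at this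
  set x := w (Sum.inl i) with hx
  set h := w (Sum.inl j) / x with hh
  have hh0 : h ≠ 0 := div_ne_zero hwj hwi
  set u' : V := ei + h • ej with hu'
  have hw' : w = x • u' := by
    funext k
    by_cases h1 : k = Sum.inl i
    · subst h1; simp [hu', ei, ej, bas, hij, ← hx]
    by_cases h2 : k = Sum.inl j
    · subst h2; simp [hu', ei, ej, bas, hij.symm, hh, mul_div_cancel₀ _ hwi]
    simp [hw0 k h1 h2, hu', ei, ej, bas, h1, h2]
  have hsu : ∀ a, β (T a (ei + ej)) = T (φ a * x ^ 2) u' := fun a => by rw [hs a, hw', T_smul]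
  -- the coefficient
  have hφ : ∀ a, φ a * x ^ 2 = a := by
    intro a
    set A := φ a * x ^ 2 with hA
    have h1 := (Sends.conj (hΦ (Sum.inr i)) (hsu a)).conj (hΦ (Sum.inl i) (-a))
    have h2 := Sends.perp hm h1 (hΦ (Sum.inr i))
      (sp_mulVec_ne_zero _ (sp_mulVec_ne_zero _ (bas_ne_zero _)))
      (sp_mulVec_ne_zero _ (sp_mulVec_ne_zero _ (bas_ne_zero _))) (bas_ne_zero _) (bas_ne_zero _)
    rw [hl, ← hA] at h2
    simp only [stv_mulVec, hu', ei, fi, ej, sbil_add_left, sbil_add_right, sbil_smul_left, sbil_smul_right,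
      sbil_bas_inl, sbil_bas_inr] at h2
    simp [bas, hij, hij.symm] at h2
    first | linear_combination h2 | linear_combination -h2
  have hu_fix : ∀ a, β (T a (ei + ej)) = T a u' := fun a => by rw [hsu, hφ]
  have hκ : ∀ a, Φ (Sum.inl j) a = a * h ^ 2 := by
    intro a
    have h1 := (Sends.conj (hΦ (Sum.inr j)) (hu_fix a)).conj (hΦ (Sum.inl j) (-a))
    have h2 := Sends.perp hm h1 (hΦ (Sum.inr j))
      (sp_mulVec_ne_zero _ (sp_mulVec_ne_zero _ (bas_ne_zero _)))
      (sp_mulVec_ne_zero _ (sp_mulVec_ne_zero _ (bas_ne_zero _))) (bas_ne_zero _) (bas_ne_zero _)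
    simp only [stv_mulVec, hu', ei, fj, ej, sbil_add_left, sbil_add_right, sbil_smul_left, sbil_smul_right,
      sbil_bas_inl, sbil_bas_inr, map_neg] at h2
    simp [bas, hij, hij.symm] at h2
    first | linear_combination h2 | linear_combination -h2
  obtain ⟨k, σ, hk, hkσ⟩ := pair_semilinear hm (sbil_bas_pair (F := F) j) (hΦ (Sum.inr j)) (hΦ (Sum.inl j))
  have hk1 : k⁻¹ = h ^ 2 := by
    have := (hkσ 1).2
    rwa [hκ, map_one, one_mul, mul_one, eq_comm] at this
  refine ⟨h, hh0, hκ, fun a => ?_, hu_fix⟩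
  have hσ : σ a = a := by
    have := (hkσ a).2
    rw [hκ, hk1, mul_comm] at this
    exact (mul_left_cancel₀ (pow_ne_zero 2 hh0) this).symm
  rw [(hkσ a).1, hσ, ← hk1, div_inv_eq_mul, mul_comm]

/-- An automorphism preserving transvection groups is induced by a semilinear similitude. -/
theorem mem_gamma_of_tpres (hm : 2 ≤ m) (α : MulAut PG) (hP : TPres α) : α ∈ Cfsg.gammaPSp m F := by
  classical
  set i₀ : Fin m := 0 with hi₀
  obtain ⟨s, hs⟩ := exists_frame hm α hP
  choose φ hφ using hs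
  obtain ⟨k, σ, hk, hkσ⟩ := pair_semilinear hm (sbil_bas_pair (F := F) i₀) (hφ (Sum.inr i₀)) (hφ (Sum.inl i₀))
  -- normalise the first pair
  set g₁ : Cfsg.GSp m F := diagGSp 1 (Units.mk0 k hk)⁻¹ with hg₁
  set β : MulAut PG := fld σ.symm * (δ g₁ * (MulAut.conj (QuotientGroup.mk s : PG) * α)) with hβ
  have hβk : ∀ r, ∃ ψ : F ≃+ F, Sends β (bas r) (bas r) ψ := by
    intro r
    have hc : (k⁻¹)⁻¹ * Sum.elim (fun _ => (1 : F)) (fun _ => k⁻¹) r ^ 2 ≠ 0 := by
      rcases r with r | r <;> simp [hk]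
    refine ⟨((φ r).trans (AddEquiv.ofBijective (AddMonoidHom.mulRight _)
      ⟨mul_left_injective₀ hc, Finite.surjective_of_injective (mul_left_injective₀ hc)⟩)).trans σ.symm.toAddEquiv,
      fun a => ?_⟩
    show fld σ.symm (δ g₁ ((MulAut.conj (QuotientGroup.mk s : PG) * α) (T a (bas r)))) =
      T (σ.symm (φ r a * _)) (bas r)
    rw [hφ r a, hg₁, δ_diagGSp_bas, fld_T, comp_bas]
    congr 2
    rcases r with r | r <;> simp [div_eq_mul_inv, mul_assoc]
  choose Φ hΦ using hβk
  have hΦr : ∀ a, Φ (Sum.inr i₀) a = a := fun a => T_inj hm (bas_ne_zero (Sum.inr i₀)) <| by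
    rw [← hΦ]
    show fld σ.symm (δ g₁ ((MulAut.conj (QuotientGroup.mk s : PG) * α) (T a (bas _)))) = _
    rw [hφ _ a, hg₁, δ_diagGSp_bas, fld_T, comp_bas, (hkσ a).1]
    congr 1
    have hk' : σ.symm k ≠ 0 := (map_ne_zero σ.symm).2 hk
    simp
    field_simp
  have hΦl : ∀ a, Φ (Sum.inl i₀) a = a := fun a => T_inj hm (bas_ne_zero (Sum.inl i₀)) <| by
    rw [← hΦ]
    show fld σ.symm (δ g₁ ((MulAut.conj (QuotientGroup.mk s : PG) * α) (T a (bas _)))) = _
    rw [hφ _ a, hg₁, δ_diagGSp_bas, fld_T, comp_bas, (hkσ a).2]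
    congr 1
    have hk' : σ.symm k ≠ 0 := (map_ne_zero σ.symm).2 hk
    simp
    field_simp
  have hPβ : TPres β := (tpres_fld _).mul ((tpres_δ _).mul ((δ_spGSp s ▸ tpres_δ _).mul hP))
  have hlink : ∀ j, ∃ h : Fˣ, (j = i₀ → h = 1) ∧ (∀ a, Φ (Sum.inl j) a = a * (h : F) ^ 2) ∧
      (∀ a, Φ (Sum.inr j) a = a / (h : F) ^ 2) ∧ (j ≠ i₀ → ∀ a,
        β (T a (bas (Sum.inl i₀) + bas (Sum.inl j))) = T a (bas (Sum.inl i₀) + (h : F) • bas (Sum.inl j))) := by
    intro j
    by_cases hj : j = i₀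
    · subst hj
      exact ⟨1, fun _ => rfl, by simpa using hΦl, by simpa using hΦr, fun h => absurd rfl h⟩
    · obtain ⟨h, hh, h1, h2, h3⟩ := link hm β hPβ (Ne.symm hj) hΦ hΦl hΦr
      exact ⟨Units.mk0 h hh, fun e => absurd e hj, h1, h2, fun _ => h3⟩
  choose d hd0 hdl hdr hdu using hlink
  -- normalise the other pairs
  set γ : MulAut PG := δ (diagGSp (fun j => (d j)⁻¹) 1) * β with hγ
  have hfix : γ = 1 := by
    let H : Subgroup Sp := (γ.toMonoidHom.eqLocus (MonoidHom.id PG)).comap (QuotientGroup.mk' _)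
    have hH : ∀ t : Sp, t ∈ H ↔ γ (QuotientGroup.mk t) = QuotientGroup.mk t := fun t => Iff.rfl
    have htop : H = ⊤ := by
      refine sp_eq_top_of_gens H i₀ (fun r a => (hH _).2 ?_) fun j hj a => (hH _).2 ?_
      · show δ _ (β (T a (bas r))) = T a (bas r)
        rw [hΦ r a, δ_diagGSp_bas]
        congr 1
        rcases r with r | r <;> simp [hdl, hdr] <;> field_simp
      · show δ _ (β (T a _)) = T a _
        rw [hdu j hj a, δ_diagGSp_T, Units.val_one, div_one]
        congr 1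
        funext r
        rcases r with r | r <;> simp [bas, Pi.single_apply]
        rcases eq_or_ne r i₀ with rfl | hr
        · simp [hd0 _ rfl, hj.symm]
        · rcases eq_or_ne r j with rfl | hr'
          · simp [hr]
          · simp [hr, hr']
    refine MulEquiv.ext fun y => ?_
    induction y using QuotientGroup.induction_on with
    | H t => exact (hH t).1 (htop ▸ Subgroup.mem_top t)
  have h1 : δ (diagGSp (fun j => (d j)⁻¹) 1) * β ∈ Cfsg.gammaPSp m F := by
    rw [← hγ, hfix]; exact one_mem _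
  rw [Subgroup.mul_mem_cancel_left _ (δ_mem_gamma _), hβ, Subgroup.mul_mem_cancel_left _ (fld_mem_gamma _),
    Subgroup.mul_mem_cancel_left _ (δ_mem_gamma _), Subgroup.mul_mem_cancel_left _ (conj_mem_gamma _)] at h1
  exact h1

/-- The automorphism group of `PSp_{2m}(F)`. -/
theorem gammaPSp_eq_top (hm : 2 ≤ m) (h4 : m = 2 → (2 : F) ≠ 0) : Cfsg.gammaPSp m F = ⊤ :=
  eq_top_iff.2 fun α _ => mem_gamma_of_tpres hm α fun _ he => exists_image hm h4 α he

end Main

end CfsgLib.KnownB.PSpAut
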