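import Cfsg.Agent.Lib.KnownB.PSpAut.Basic
import Cfsg.Agent.Lib.Geometry.Symplectic

/-!
An automorphism of `PSp_{2m}(F)` maps transvection groups to transvection groups: transvections are central in a
Sylow subgroup, and other central candidates have larger classes.
-/

set_option autoImplicit false

namespace CfsgLib.KnownB.PSpAut

open Matrix CfsgLib.Classical

universe u

variable {m : ℕ} {F : Type u} [Field F]

local notation "Sp" => Matrix.symplecticGroup (Fin m) F
local notation "PG" => Cfsg.PSp m F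
local notation "M2" => Matrix (Fin m ⊕ Fin m) (Fin m ⊕ Fin m) F
local notation "V" => (Fin m ⊕ Fin m → F)

theorem eq_smul_of_perp {e f y : V} (hef : sbil e f = 1) (hy : ∀ w, sbil e w = 0 → sbil y w = 0) :
    y = sbil y f • e := by
  refine sbil_ext fun w => ?_
  have := hy (w - sbil e w • f) (by rw [sbil_sub_right, sbil_smul_right, hef, mul_one, sub_self])
  rw [sbil_sub_right, sbil_smul_right, sub_eq_zero] at this
  rw [this, sbil_smul_left, mul_comm]

/-- The elements fixing `e` and trivial on `e^⊥ / ⟨e⟩`. -/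
def radical (e : V) : Subgroup Sp where
  carrier := {g | g.1 *ᵥ e = e ∧ ∀ x, sbil e x = 0 → ∃ c : F, g.1 *ᵥ x = x + c • e}
  one_mem' := ⟨sp_one_mulVec e, fun x _ => ⟨0, by rw [sp_one_mulVec]; simp⟩⟩
  mul_mem' {g h} hg hh := by
    refine ⟨by rw [sp_mul_mulVec, hh.1, hg.1], fun x hx => ?_⟩
    obtain ⟨c, hc⟩ := hh.2 x hx
    obtain ⟨d, hd⟩ := hg.2 x hx
    exact ⟨d + c, by rw [sp_mul_mulVec, hc, Matrix.mulVec_add, Matrix.mulVec_smul, hg.1, hd, add_smul, add_assoc]⟩
  inv_mem' {g} hg := by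
    have he : (g⁻¹).1 *ᵥ e = e := by
      conv_lhs => rw [← hg.1]
      exact sp_inv_mulVec g e
    refine ⟨he, fun x hx => ?_⟩
    obtain ⟨c, hc⟩ := hg.2 x hx
    refine ⟨-c, ?_⟩
    have h := congrArg ((g⁻¹).1 *ᵥ ·) hc
    simp only [sp_inv_mulVec, Matrix.mulVec_add, Matrix.mulVec_smul, he] at h
    rw [neg_smul, ← sub_eq_add_neg]
    exact eq_sub_of_add_eq h.symm

theorem isPGroup_radical (p : ℕ) [Fact p.Prime] [CharP F p] [Finite F] [NeZero m] (e : V) :
    IsPGroup p ↥(radical e) := by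
  intro g
  refine ⟨2, Subtype.ext (Subtype.ext ?_)⟩
  show (g.1 ^ p ^ 2 : Sp).1 = 1
  set N : M2 := g.1.1 - 1 with hN
  have hNe : ∀ x, ∃ c, sbil e x = 0 → N *ᵥ x = c • e := fun x => by
    by_cases hx : sbil e x = 0
    · obtain ⟨c, hc⟩ := g.2.2 x hx
      exact ⟨c, fun _ => by rw [hN, Matrix.sub_mulVec, Matrix.one_mulVec, hc, add_sub_cancel_left]⟩
    · exact ⟨0, fun h => absurd h hx⟩
  have h3 : N ^ 3 = 0 := by
    refine Matrix.ext_iff_mulVec.2 fun x => ?_
    have hNe0 : N *ᵥ e = 0 := by rw [hN, Matrix.sub_mulVec, Matrix.one_mulVec, g.2.1, sub_self]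
    have hperp : sbil e (N *ᵥ x) = 0 := by
      rw [hN, Matrix.sub_mulVec, Matrix.one_mulVec, sbil_sub_right]
      have := sbil_mulVec g.1 e x
      rw [g.2.1] at this
      rw [this, sub_self]
    obtain ⟨c, hc⟩ := hNe (N *ᵥ x)
    rw [pow_succ', pow_two, ← Matrix.mulVec_mulVec, ← Matrix.mulVec_mulVec, hc hperp, Matrix.mulVec_smul, hNe0,
      smul_zero, Matrix.zero_mulVec]
  have h4 : N ^ p ^ 2 = 0 := by
    refine pow_eq_zero_of_le ?_ h3
    have := (Fact.out : p.Prime).two_le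
    calc 3 ≤ 2 ^ 2 := by norm_num
      _ ≤ p ^ 2 := Nat.pow_le_pow_left this 2
  rw [SubmonoidClass.coe_pow, ← sub_eq_zero, ← one_pow (p ^ 2),
    ← sub_pow_char_pow_of_commute p 2 (Commute.one_right _)]
  exact h4

theorem conj_mem_radical {e : V} {u g : Sp} (hu : u.1 *ᵥ e = e) (hg : g ∈ radical e) :
    u * g * u⁻¹ ∈ radical e := by
  have hu' : (u⁻¹).1 *ᵥ e = e := by
    conv_lhs => rw [← hu]
    exact sp_inv_mulVec u e
  refine ⟨by rw [sp_mul_mulVec, sp_mul_mulVec, hu', hg.1, hu], fun x hx => ?_⟩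
  obtain ⟨c, hc⟩ := hg.2 ((u⁻¹).1 *ᵥ x) (by rw [← hu', sbil_mulVec, hx])
  exact ⟨c, by rw [sp_mul_mulVec, sp_mul_mulVec, hc, Matrix.mulVec_add, Matrix.mulVec_smul, hu, sp_mulVec_inv]⟩

/-- The centraliser of the radical. -/
theorem centralizer_radical {e : V} (he : e ≠ 0) {z : Sp} (hze : z.1 *ᵥ e = e)
    (hz : ∀ g ∈ radical e, z * g = g * z) :
    (∃ c : F, z = stv c e) ∨
      ((2 : F) = 0 ∧ ∃ w : V, sbil e w = 0 ∧ LinearIndependent F ![e, w] ∧
        (∀ x, ∃ s t : F, z.1 *ᵥ x - x = s • e + t • w) ∧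
        (∃ x, z.1 *ᵥ x - x = e) ∧ (∃ x, z.1 *ᵥ x - x = w) ∧
        ∃ c : F, ∀ x, z.1 *ᵥ x = x + sbil w x • e + sbil e x • w + (c * sbil e x) • e) := by
  obtain ⟨f, hf⟩ := exists_sbil_eq_one he
  have hτ : ∀ v, sbil e v = 0 → ∀ x,
      z.1 *ᵥ (x + sbil v x • e + sbil e x • v) = z.1 *ᵥ x + sbil v (z.1 *ᵥ x) • e + sbil e (z.1 *ᵥ x) • v := by
    intro v hv
    set τ := stv (1 : F) (e + v) * stv (-1 : F) e * stv (-1 : F) v
    have hact : ∀ x, τ.1 *ᵥ x = x + sbil v x • e + sbil e x • v := by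
      intro x
      have hv' : sbil v e = 0 := by rw [sbil_swap, hv, neg_zero]
      simp only [τ, sp_mul_mulVec, stv_mulVec, sbil_add_right, sbil_add_left, sbil_smul_right, hv, hv', sbil_self,
        mul_zero, zero_mul, add_zero]
      module
    have hmem : τ ∈ radical e := by
      refine ⟨?_, fun x hx => ⟨sbil v x, ?_⟩⟩
      · rw [hact, sbil_self, sbil_swap e v, hv]; simp
      · rw [hact, hx, zero_smul, add_zero]
    intro x
    have h := congrArg (fun k : Sp => k.1 *ᵥ x) (hz τ hmem)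
    simp only [sp_mul_mulVec, hact] at h
    exact h
  have hez : ∀ x, sbil e (z.1 *ᵥ x) = sbil e x := fun x => by
    conv_lhs => arg 1; rw [← hze]
    rw [sbil_mulVec]
  -- trivial on `e^⊥ / e`
  have hperp : ∀ x, sbil e x = 0 → z.1 *ᵥ x = x + sbil (z.1 *ᵥ x - x) f • e := by
    intro x hx
    rw [← eq_smul_of_perp hf (y := z.1 *ᵥ x - x) fun v hv => ?_, add_sub_cancel]
    have h := hτ v hv x
    rw [hez, hx, zero_smul, add_zero, add_zero, Matrix.mulVec_add, Matrix.mulVec_smul, hze,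
      add_right_inj] at h
    have h' : sbil v (z.1 *ᵥ x) = sbil v x := (smul_left_injective F he h).symm
    rw [sbil_swap v (z.1 *ᵥ x - x), sbil_sub_right, h', sub_self, neg_zero]
  set w₀ := z.1 *ᵥ f - f with hw₀
  have hzf : z.1 *ᵥ f = f + w₀ := by rw [hw₀, add_sub_cancel]
  have hew : sbil e w₀ = 0 := by rw [hw₀, sbil_sub_right, hez, sub_self]
  have hzv : ∀ v, sbil e v = 0 → z.1 *ᵥ v = v + sbil v w₀ • e := by
    intro v hv
    have h := hτ v hv f
    rw [hez, hf, one_smul, Matrix.mulVec_add, Matrix.mulVec_add, Matrix.mulVec_smul, hze, hzf,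
      sbil_add_right, add_smul] at h
    have h' := h
    rw [show f + w₀ + sbil v f • e + z.1 *ᵥ v = (f + w₀ + sbil v f • e) + z.1 *ᵥ v from rfl,
      show f + w₀ + (sbil v f • e + sbil v w₀ • e) + v = (f + w₀ + sbil v f • e) + (v + sbil v w₀ • e) by abel,
      add_right_inj] at h'
    exact h'
  have h2 : ∀ v, sbil e v = 0 → 2 * sbil v w₀ = 0 := by
    intro v hv
    have h := sbil_mulVec z v f
    rw [hzv v hv, hzf, sbil_add_left, sbil_add_right, sbil_smul_left, sbil_add_right, hf, hew] at h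
    linear_combination h
  by_cases hall : ∀ v, sbil e v = 0 → sbil v w₀ = 0
  · left
    have hw : w₀ = sbil w₀ f • e := eq_smul_of_perp hf fun v hv => by rw [sbil_swap, hall v hv, neg_zero]
    refine ⟨sbil w₀ f, sp_ext fun x => ?_⟩
    have hx' : sbil e (x - sbil e x • f) = 0 := by rw [sbil_sub_right, sbil_smul_right, hf, mul_one, sub_self]
    have h := hzv _ hx'
    rw [hall _ hx', zero_smul, add_zero, Matrix.mulVec_sub, Matrix.mulVec_smul, hzf, sub_eq_iff_eq_add] at h
    rw [h, stv_mulVec]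
    conv_lhs => rw [hw]
    module
  · right
    push Not at hall
    obtain ⟨v, hv, hvw⟩ := hall
    refine ⟨(mul_eq_zero.1 (h2 v hv)).resolve_right hvw, w₀, hew, ?_, fun x => ?_, ⟨(sbil v w₀)⁻¹ • v, ?_⟩, ⟨f, rfl⟩,
      sbil f w₀, fun x => ?_⟩
    · rw [LinearIndependent.pair_iff' he]
      intro c hc
      refine hvw ?_
      rw [← hc, sbil_smul_right, sbil_swap, hv, neg_zero, mul_zero]
    · refine ⟨sbil (x - sbil e x • f) w₀, sbil e x, ?_⟩
      have hx' : sbil e (x - sbil e x • f) = 0 := by rw [sbil_sub_right, sbil_smul_right, hf, mul_one, sub_self]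
      have h := hzv _ hx'
      rw [Matrix.mulVec_sub, Matrix.mulVec_smul, hzf, sub_eq_iff_eq_add] at h
      rw [h]
      module
    · rw [Matrix.mulVec_smul, hzv v hv, smul_add, smul_smul, inv_mul_cancel₀ hvw, one_smul, add_sub_cancel_left]
    · have h2F : (2 : F) = 0 := (mul_eq_zero.1 (h2 v hv)).resolve_right hvw
      have hx' : sbil e (x - sbil e x • f) = 0 := by rw [sbil_sub_right, sbil_smul_right, hf, mul_one, sub_self]
      have h := hzv _ hx'
      rw [Matrix.mulVec_sub, Matrix.mulVec_smul, hzf, sub_eq_iff_eq_add, sbil_sub_left, sbil_smul_left,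
        sbil_swap w₀ x] at h
      rw [h]
      funext i
      simp only [Pi.add_apply, Pi.sub_apply, Pi.smul_apply, smul_eq_mul]
      linear_combination -(sbil w₀ x * e i + sbil e x * sbil f w₀ * e i) * h2F

section Finite

variable [Finite F]

theorem card_vectors : Nat.card V = Nat.card F ^ (2 * m) := by
  rw [Nat.card_fun, Nat.card_eq_fintype_card (α := Fin m ⊕ Fin m), Fintype.card_sum, Fintype.card_fin, two_mul]

theorem card_perp {u : V} (hu : u ≠ 0) : Nat.card {x : V // sbil u x = 0} = Nat.card F ^ (2 * m - 1) := by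
  obtain ⟨z, hz⟩ := exists_sbil_eq_one hu
  let e : V ≃ F × {x : V // sbil u x = 0} :=
    { toFun := fun x => (sbil u x, ⟨x - sbil u x • z, by rw [sbil_sub_right, sbil_smul_right, hz, mul_one, sub_self]⟩)
      invFun := fun p => p.2.1 + p.1 • z
      left_inv := fun x => by simp
      right_inv := fun p => by
        have h : sbil u (p.2.1 + p.1 • z) = p.1 := by
          rw [sbil_add_right, sbil_smul_right, hz, p.2.2, zero_add, mul_one]
        refine Prod.ext h (Subtype.ext ?_)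
        show p.2.1 + p.1 • z - sbil u (p.2.1 + p.1 • z) • z = p.2.1
        rw [h, add_sub_cancel_right] }
  have h := Nat.card_congr e
  rw [card_vectors, Nat.card_prod] at h
  have hm : 1 ≤ 2 * m := by
    by_contra h0
    obtain rfl : m = 0 := by omega
    exact hu (funext fun i => by rcases i with i | i <;> exact i.elim0)
  refine (Nat.eq_of_mul_eq_mul_left Nat.card_pos (h.symm.trans ?_))
  rw [← pow_succ', Nat.sub_add_cancel hm]

/-- There are many ordered pairs spanning totally isotropic planes. -/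
theorem card_pairs_ge :
    (Nat.card F ^ (2 * m) - 1) * (Nat.card F ^ (2 * m - 1) - Nat.card F) ≤
      Nat.card {p : V × V // p.1 ≠ 0 ∧ sbil p.1 p.2 = 0 ∧ ∀ c : F, p.2 ≠ c • p.1} := by
  classical
  haveI := Fintype.ofFinite F
  set q := Nat.card F
  let S := {p : V × V // p.1 ≠ 0 ∧ sbil p.1 p.2 = 0 ∧ ∀ c : F, p.2 ≠ c • p.1}
  let A := {u : V // u ≠ 0}
  let e' : ((u : A) × {x : V // sbil u.1 x = 0 ∧ ∀ c : F, x ≠ c • u.1}) ≃ S :=
    { toFun := fun p => ⟨(p.1.1, p.2.1), p.1.2, p.2.2⟩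
      invFun := fun p => ⟨⟨p.1.1, p.2.1⟩, ⟨p.1.2, p.2.2⟩⟩
      left_inv := fun _ => rfl
      right_inv := fun _ => rfl }
  haveI : Fintype A := Fintype.ofFinite _
  rw [← Nat.card_congr e', Nat.card_sigma]
  have hA : Nat.card A = q ^ (2 * m) - 1 := by
    rw [← card_vectors (m := m) (F := F), Nat.card_eq_fintype_card, Nat.card_eq_fintype_card, Fintype.card_subtype_compl,
      Fintype.card_subtype_eq]
  rw [← hA, Nat.card_eq_fintype_card, ← smul_eq_mul, ← Finset.card_univ, ← Finset.sum_const]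
  refine Finset.sum_le_sum fun u _ => ?_
  have hsplit : {x : V | sbil u.1 x = 0} ⊆
      {x : V | sbil u.1 x = 0 ∧ ∀ c : F, x ≠ c • u.1} ∪ Set.range (fun c : F => c • u.1) := by
    intro x hx
    by_cases h : ∀ c : F, x ≠ c • u.1
    · exact Or.inl ⟨hx, h⟩
    · push Not at h
      obtain ⟨c, hc⟩ := h
      exact Or.inr ⟨c, hc.symm⟩
  have h3 := (Set.ncard_le_ncard hsplit (Set.toFinite _)).trans (Set.ncard_union_le _ _)
  have h4 : (Set.range fun c : F => c • u.1).ncard ≤ q := by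
    rw [← Set.image_univ]
    exact (Set.ncard_image_le Set.finite_univ).trans (le_of_eq (Set.ncard_univ F))
  rw [← Nat.card_coe_set_eq, ← Nat.card_coe_set_eq {x : V | sbil u.1 x = 0 ∧ _}] at h3
  simp only [Set.coe_setOf] at h3
  rw [card_perp u.2, show Nat.card F = q from rfl] at h3
  omega

/-- Elements of the second kind have large classes. -/
theorem card_class_gt (hm : 3 ≤ m) {e w : V} (hew : sbil e w = 0) (hli : LinearIndependent F ![e, w]) {z : Sp}
    (hz : ∀ x, ∃ s t : F, z.1 *ᵥ x - x = s • e + t • w)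
    (he : ∃ x, z.1 *ᵥ x - x = e) (hw : ∃ x, z.1 *ᵥ x - x = w) :
    Nat.card F ^ (2 * m) - 1 < Nat.card {y : Sp // ∃ g : Sp, g * z * g⁻¹ = y} := by
  classical
  haveI := Fintype.ofFinite F
  set q := Nat.card F
  let S := {p : V × V // p.1 ≠ 0 ∧ sbil p.1 p.2 = 0 ∧ ∀ c : F, p.2 ≠ c • p.1}
  have hg : ∀ p : S, ∃ g : Sp, g.1 *ᵥ e = p.1.1 ∧ g.1 *ᵥ w = p.1.2 := by
    rintro ⟨⟨u, v⟩, hu, huv, hc⟩
    obtain ⟨g, hg⟩ := CfsgLib.Geometry.sp_extend m F ![e, w] ![u, v] hli
      ((LinearIndependent.pair_iff' hu).2 fun c h => hc c h.symm) (by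
        intro i j
        simp only [sympForm_eq_sbil]
        fin_cases i <;> fin_cases j <;> simp [hew, huv, sbil_swap e w, sbil_swap u v])
    exact ⟨g, hg 0, hg 1⟩
  choose g hg1 hg2 using hg
  let Y := {y : Sp // ∃ g : Sp, g * z * g⁻¹ = y}
  let φ : S → Y := fun p => ⟨g p * z * (g p)⁻¹, g p, rfl⟩
  let R : Y → Set V := fun y => Set.range fun x => y.1.1 *ᵥ x - x
  have hR : ∀ y : Y, (R y).ncard ≤ q ^ 2 := by
    rintro ⟨_, k, rfl⟩
    have hsub : (Set.range fun x => (k * z * k⁻¹).1 *ᵥ x - x) ⊆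
        Set.range (fun p : F × F => k.1 *ᵥ (p.1 • e + p.2 • w)) := by
      rintro _ ⟨x, rfl⟩
      obtain ⟨s, t, hst⟩ := hz ((k⁻¹).1 *ᵥ x)
      refine ⟨(s, t), ?_⟩
      show k.1 *ᵥ (s • e + t • w) = (k * z * k⁻¹).1 *ᵥ x - x
      rw [← hst, Matrix.mulVec_sub, sp_mulVec_inv, sp_mul_mulVec, sp_mul_mulVec]
    refine le_trans (Set.ncard_le_ncard hsub (Set.finite_range _)) ?_
    rw [← Set.image_univ]
    refine (Set.ncard_image_le Set.finite_univ).trans ?_
    rw [Set.ncard_univ, Nat.card_prod, pow_two]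
  let f : S → (y : Y) × (R y × R y) := fun p =>
    ⟨φ p,
      ⟨p.1.1, by
        obtain ⟨x, hx⟩ := he
        refine ⟨(g p).1 *ᵥ x, ?_⟩
        show (g p * z * (g p)⁻¹).1 *ᵥ ((g p).1 *ᵥ x) - (g p).1 *ᵥ x = p.1.1
        rw [sp_mul_mulVec, sp_mul_mulVec, sp_inv_mulVec, ← Matrix.mulVec_sub, hx, hg1]⟩,
      ⟨p.1.2, by
        obtain ⟨x, hx⟩ := hw
        refine ⟨(g p).1 *ᵥ x, ?_⟩
        show (g p * z * (g p)⁻¹).1 *ᵥ ((g p).1 *ᵥ x) - (g p).1 *ᵥ x = p.1.2
        rw [sp_mul_mulVec, sp_mul_mulVec, sp_inv_mulVec, ← Matrix.mulVec_sub, hx, hg2]⟩⟩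
  have hf : Function.Injective f := fun p p' h => by
    have h' := congrArg (fun s : (y : Y) × (R y × R y) => ((s.2.1 : V), (s.2.2 : V))) h
    exact Subtype.ext h'
  haveI : Fintype Y := Fintype.ofFinite _
  have h1 : Nat.card S ≤ Nat.card Y * q ^ 4 := by
    refine (Nat.card_le_card_of_injective f hf).trans ?_
    rw [Nat.card_sigma]
    calc ∑ y : Y, Nat.card (R y × R y) ≤ ∑ _y : Y, q ^ 4 := by
          refine Finset.sum_le_sum fun y _ => ?_
          rw [Nat.card_prod, Nat.card_coe_set_eq, show q ^ 4 = q ^ 2 * q ^ 2 from pow_add q 2 2]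
          exact Nat.mul_le_mul (hR y) (hR y)
      _ = Nat.card Y * q ^ 4 := by rw [Finset.sum_const, Nat.card_eq_fintype_card, smul_eq_mul, Finset.card_univ]
  have h2 : (q ^ (2 * m) - 1) * (q ^ (2 * m - 1) - q) ≤ Nat.card S := card_pairs_ge
  by_contra hle
  push Not at hle
  have hq : 2 ≤ q := Finite.one_lt_card
  have h5 : (q ^ (2 * m) - 1) * (q ^ (2 * m - 1) - q) ≤ (q ^ (2 * m) - 1) * q ^ 4 :=
    h2.trans (h1.trans (Nat.mul_le_mul_right _ hle))
  have hpos : 0 < q ^ (2 * m) - 1 := Nat.sub_pos_of_lt (Nat.one_lt_pow (by omega) hq)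
  have h6 := Nat.le_of_mul_le_mul_left h5 hpos
  have h7 : q ^ 5 ≤ q ^ (2 * m - 1) := Nat.pow_le_pow_right (by omega) (by omega)
  have h8 : 2 * q ^ 4 ≤ q ^ 5 := le_of_le_of_eq (Nat.mul_le_mul_right _ hq) (pow_succ' q 4).symm
  have h9 : q < q ^ 4 := by
    calc q = q ^ 1 := (pow_one q).symm
      _ < q ^ 4 := Nat.pow_lt_pow_right hq (by omega)
  omega

theorem exists_fixed (p : ℕ) [Fact p.Prime] [CharP F p] [NeZero m] (U : Subgroup Sp) (hU : IsPGroup p ↥U) :
    ∃ e : V, e ≠ 0 ∧ ∀ g ∈ U, g.1 *ᵥ e = e := by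
  classical
  haveI := Fintype.ofFinite F
  letI : MulAction ↥U V :=
    { smul := fun g v => g.1.1 *ᵥ v
      one_smul := fun v => sp_one_mulVec v
      mul_smul := fun g h v => sp_mul_mulVec g.1 h.1 v }
  have hdvd : p ∣ Nat.card V := by
    rw [card_vectors]
    obtain ⟨f, -, hcard⟩ := FiniteField.card F p
    rw [Nat.card_eq_fintype_card, hcard]
    exact dvd_pow (dvd_pow_self p f.ne_zero) (by have := NeZero.ne m; omega)
  obtain ⟨e, he, hne⟩ := hU.exists_fixed_point_of_prime_dvd_card_of_fixed_point V hdvd (a := 0)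
    (fun g => Matrix.mulVec_zero _)
  exact ⟨e, fun h => hne h.symm, fun g hg => he ⟨g, hg⟩⟩

theorem card_class_stv_le (a : F) {e : V} (he : e ≠ 0) :
    Nat.card {y : PG // ∃ g : PG, g * QuotientGroup.mk (stv a e) * g⁻¹ = y} ≤ Nat.card F ^ (2 * m) - 1 := by
  classical
  haveI := Fintype.ofFinite F
  let f : {v : V // v ≠ 0} → {y : PG // ∃ g : PG, g * QuotientGroup.mk (stv a e) * g⁻¹ = y} := fun v =>
    ⟨QuotientGroup.mk (stv a v.1), by
      obtain ⟨g, hg⟩ := sp_transitive he v.2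
      exact ⟨QuotientGroup.mk g, by rw [← hg, ← stv_conj]; rfl⟩⟩
  have hf : Function.Surjective f := by
    rintro ⟨_, g, rfl⟩
    induction g using QuotientGroup.induction_on with
    | H g => exact ⟨⟨g.1 *ᵥ e, sp_mulVec_ne_zero g he⟩, Subtype.ext (by
        show (QuotientGroup.mk (stv a (g.1 *ᵥ e)) : PG) = _
        rw [← stv_conj]; rfl)⟩
  refine (Nat.card_le_card_of_surjective f hf).trans (le_of_eq ?_)
  rw [← card_vectors (m := m) (F := F), Nat.card_eq_fintype_card, Nat.card_eq_fintype_card, Fintype.card_subtype_compl,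
    Fintype.card_subtype_eq]

/-- The image of a transvection group is centralised by a radical. -/
theorem exists_central_image [NeZero m] (α : MulAut PG) {e : V} (he : e ≠ 0) :
    ∃ e' : V, e' ≠ 0 ∧ ∀ a : F, ∃ z : Sp, (QuotientGroup.mk z : PG) = α (QuotientGroup.mk (stv a e)) ∧
      z.1 *ᵥ e' = e' ∧ ∀ g ∈ radical e', z * g = g * z := by
  classical
  obtain ⟨p, hp⟩ := CharP.exists F
  haveI : Fact p.Prime := ⟨CharP.char_is_prime F p⟩
  let π : Sp →* PG := QuotientGroup.mk' _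
  have hπ : Function.Surjective π := QuotientGroup.mk'_surjective _
  -- a Sylow subgroup fixing `e`
  obtain ⟨U, hU⟩ : ∃ U : Sylow p Sp, ∀ g ∈ U, g.1 *ᵥ e = e := by
    obtain ⟨U₀⟩ : Nonempty (Sylow p Sp) := inferInstance
    obtain ⟨e₀, he₀, h₀⟩ := exists_fixed p U₀.1 U₀.isPGroup'
    obtain ⟨k, hk⟩ := sp_transitive he₀ he
    refine ⟨k • U₀, fun g hg => ?_⟩
    change g ∈ ((k • U₀ : Sylow p Sp) : Subgroup Sp) at hg
    rw [Sylow.coe_subgroup_smul, Subgroup.mem_pointwise_smul_iff_inv_smul_mem] at hg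
    have := h₀ _ hg
    rw [← hk]
    simp only [MulAut.smul_def, MulAut.inv_apply, MulAut.conj_symm_apply] at this
    have h' := congrArg (k.1 *ᵥ ·) this
    simpa only [sp_mul_mulVec, sp_mulVec_inv] using h'
  let Q : Sylow p PG := U.mapSurjective hπ
  let Q' : Sylow p PG := Q.mapSurjective (f := α.toMonoidHom) α.surjective
  -- a Sylow subgroup above the image
  obtain ⟨U', hU'⟩ : ∃ U' : Sylow p Sp, (Q' : Subgroup PG) = U'.1.map π := by
    obtain ⟨h, hh⟩ := MulAction.exists_smul_eq PG Q Q'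
    induction h using QuotientGroup.induction_on with
    | H k =>
      refine ⟨k • U, ?_⟩
      rw [← hh, Sylow.coe_subgroup_smul, show (Q : Subgroup PG) = U.1.map π from rfl, Sylow.coe_subgroup_smul]
      ext y
      simp only [Subgroup.mem_pointwise_smul_iff_inv_smul_mem, Subgroup.mem_map, MulAut.smul_def, MulAut.inv_apply,
        MulAut.conj_symm_apply]
      constructor
      · rintro ⟨x, hx, hxy⟩
        refine ⟨k * x * k⁻¹, by simpa [mul_assoc] using hx, ?_⟩
        rw [map_mul, map_mul, hxy, map_inv]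
        simp [π, mul_assoc]
      · rintro ⟨x, hx, rfl⟩
        exact ⟨k⁻¹ * x * k, hx, by simp [π, mul_assoc]⟩
  obtain ⟨e', he', hfix⟩ := exists_fixed p U'.1 U'.isPGroup'
  have hrad : radical e' ≤ U'.1 := by
    let S : Subgroup Sp := radical e' ⊔ U'.1
    have hN : U'.1 ≤ Subgroup.normalizer (radical e' : Set Sp) := fun u hu => by
      rw [Subgroup.mem_normalizer_iff]
      intro g
      refine ⟨conj_mem_radical (hfix u hu), fun h => ?_⟩
      have h' := conj_mem_radical (hfix _ (inv_mem hu)) h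
      simpa [mul_assoc] using h'
    have hS : IsPGroup p ↥S :=
      (isPGroup_radical p e').to_sup_of_normal_left' U'.isPGroup' hN
    exact (le_sup_left : radical e' ≤ S).trans (U'.is_maximal' hS le_sup_right).le
  refine ⟨e', he', fun a => ?_⟩
  obtain ⟨z₀, hz₀⟩ := QuotientGroup.mk_surjective (α (QuotientGroup.mk (stv a e)))
  -- it commutes with `U'`
  have hcomm : ∀ u ∈ U'.1, z₀ * u = u * z₀ := by
    intro u hu
    have hmem : π u ∈ (Q' : Subgroup PG) := hU' ▸ Subgroup.mem_map_of_mem π hu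
    obtain ⟨x, ⟨u₀, hu₀, hx⟩, hxu⟩ := (show π u ∈ (Q : Subgroup PG).map α.toMonoidHom from hmem)
    have hc : Commute (α (QuotientGroup.mk (stv a e))) (π u) := by
      rw [← hxu, ← hx]
      refine (Commute.map ?_ π).map α
      show stv a e * u₀ = u₀ * stv a e
      have := stv_conj u₀ a e
      rw [hU u₀ hu₀] at this
      exact (mul_inv_eq_iff_eq_mul.1 this).symm
    have h1 : (QuotientGroup.mk (z₀ * u * z₀⁻¹) : PG) = QuotientGroup.mk u := by
      rw [QuotientGroup.mk_mul, QuotientGroup.mk_mul, QuotientGroup.mk_inv, hz₀, show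
        (QuotientGroup.mk u : PG) = π u from rfl, hc.eq, mul_inv_cancel_right]
    obtain ⟨k, hk⟩ := U'.isPGroup' ⟨u, hu⟩
    have hk' : u ^ p ^ k = 1 := congrArg Subtype.val hk
    rcases mk_eq_mk_iff.1 h1 with h | h
    · exact mul_inv_eq_iff_eq_mul.1 (Subtype.ext h).symm
    · by_cases h2 : (2 : F) = 0
      · refine mul_inv_eq_iff_eq_mul.1 (Subtype.ext ?_).symm
        rw [h]
        ext i j
        rw [Matrix.neg_apply, neg_eq_iff_add_eq_zero]
        linear_combination (z₀ * u * z₀⁻¹).1 i j * h2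
      · exfalso
        have hpow : (z₀ * u * z₀⁻¹) ^ p ^ k = 1 := by rw [conj_pow, hk', mul_one, mul_inv_cancel]
        have hpow' : (z₀ * u * z₀⁻¹).1 ^ p ^ k = 1 := by
          rw [← SubmonoidClass.coe_pow, hpow]; rfl
        have hu' : u.1 ^ p ^ k = 1 := by rw [← SubmonoidClass.coe_pow, hk']; rfl
        have hodd : Odd (p ^ k) := (Nat.Prime.odd_of_ne_two (Fact.out) fun h' => h2 (by
          have := CharP.cast_eq_zero F p
          rwa [h'] at this)).pow
        rw [h, hodd.neg_pow, hpow'] at hu'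
        refine h2 ?_
        have := congrFun (congrFun hu' (Sum.inl 0)) (Sum.inl 0)
        rw [Matrix.neg_apply, Matrix.one_apply_eq] at this
        linear_combination -this
  have h1 : stv (1 : F) (z₀.1 *ᵥ e') = stv 1 e' := by
    rw [← stv_conj, hcomm _ (hrad ⟨?_, fun x hx => ⟨0, ?_⟩⟩), mul_inv_cancel_right]
    · simp
    · simp [hx]
  obtain ⟨z', hzc⟩ := exists_sbil_eq_one he'
  obtain ⟨c, hc0, hc⟩ := par_of_stv_eq one_ne_zero (sp_mulVec_ne_zero z₀ he') h1
  have hcc : c ^ 2 = 1 := by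
    rw [hc, stv_smul, one_mul] at h1
    have := congrArg (fun k : Sp => k.1 *ᵥ z') h1
    simp only [stv_mulVec, hzc, mul_one, one_mul, add_right_inj] at this
    exact smul_left_injective F he' this
  rcases sq_eq_one_iff.1 hcc with rfl | rfl
  · exact ⟨z₀, hz₀, by rw [hc, one_smul], fun g hg => hcomm g (hrad hg)⟩
  · have hneg : -z₀.1 ∈ Matrix.symplecticGroup (Fin m) F := SymplecticGroup.neg_mem z₀.2
    refine ⟨⟨-z₀.1, hneg⟩, ?_, ?_, fun g hg => Subtype.ext ?_⟩
    · rw [← hz₀, mk_eq_mk_iff]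
      right
      simp
    · rw [Matrix.neg_mulVec, hc, neg_smul, one_smul, neg_neg]
    · show -z₀.1 * g.1 = g.1 * -z₀.1
      rw [neg_mul, mul_neg, neg_inj]
      exact congrArg Subtype.val (hcomm g (hrad hg))

/-- An automorphism sends a transvection group into a transvection group. -/
theorem exists_image [NeZero m] (hm : 2 ≤ m) (h4 : m = 2 → (2 : F) ≠ 0) (α : MulAut PG) {e : V} (he : e ≠ 0) :
    ∃ e' : V, e' ≠ 0 ∧ ∀ a : F, ∃ b : F, α (QuotientGroup.mk (stv a e)) = QuotientGroup.mk (stv b e') := by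
  obtain ⟨e', he', himg⟩ := exists_central_image α he
  refine ⟨e', he', fun a => ?_⟩
  obtain ⟨z, hz, hze⟩ := himg a
  rcases centralizer_radical he' hze.1 hze.2 with ⟨c, rfl⟩ | ⟨h2, w, hew, hli, hzx, he1, hw1, -⟩
  · exact ⟨c, hz.symm⟩
  · exfalso
    have hm3 : 3 ≤ m := by
      rcases hm.lt_or_eq with h | h
      · exact h
      · exact absurd h2 (h4 h.symm)
    have hinj : Function.Injective (QuotientGroup.mk' _ : Sp →* PG) := by
      intro s t h
      rcases mk_eq_mk_iff.1 h with h | h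
      · exact (Subtype.ext h).symm
      · refine (Subtype.ext ?_).symm
        rw [h]
        ext i j
        rw [Matrix.neg_apply, neg_eq_iff_add_eq_zero]
        linear_combination s.1 i j * h2
    have hgt := card_class_gt hm3 hew hli hzx he1 hw1
    have hle := card_class_stv_le (m := m) a he
    let f : {y : Sp // ∃ g : Sp, g * z * g⁻¹ = y} →
        {y : PG // ∃ g : PG, g * QuotientGroup.mk (stv a e) * g⁻¹ = y} := fun y =>
      ⟨α.symm (QuotientGroup.mk y.1), by
        obtain ⟨g, hg⟩ := y.2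
        refine ⟨α.symm (QuotientGroup.mk g), ?_⟩
        rw [← hg, ← α.symm_apply_apply (QuotientGroup.mk (stv a e)), ← hz]
        simp⟩
    have hfinj : Function.Injective f := fun y y' h =>
      Subtype.ext (hinj (α.symm.injective (congrArg Subtype.val h)))
    have := Nat.card_le_card_of_injective f hfinj
    omega

end Finite

end CfsgLib.KnownB.PSpAut
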